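import Mathlib

/-!
Horrocks' theorem over a local ring: a finitely generated projective `R[X]`-module `E` with maps
`u : E → R[X]^r`, `v : R[X]^r → E` whose two composites are multiplication by a monic polynomial
is free.
-/

open Polynomial

namespace Groth.Agent.CAlg.Horrocks

universe u v

/-- Vectors of polynomials whose `i`-th entry has degree `< a i`. -/
noncomputable def box (R : Type u) [CommRing R] {r : ℕ} (a : Fin r → ℕ) :
    Submodule R (Fin r → R[X]) :=
  Submodule.pi Set.univ fun i => Polynomial.degreeLT R (a i)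

theorem mem_box {R : Type u} [CommRing R] {r : ℕ} {a : Fin r → ℕ} {x : Fin r → R[X]} :
    x ∈ box R a ↔ ∀ i, (x i).degree < (a i : WithBot ℕ) := by
  simp [box, Submodule.mem_pi, Polynomial.mem_degreeLT]

theorem box_finite (R : Type u) [CommRing R] {r : ℕ} (a : Fin r → ℕ) :
    Module.Finite R (box R a) := by
  have h : ∀ i, Module.Finite R (Polynomial.degreeLT R (a i)) := fun i =>
    Module.Finite.equiv (Polynomial.degreeLTEquiv R (a i)).symm
  let f : (∀ i, Polynomial.degreeLT R (a i)) →ₗ[R] box R a :=
    (LinearMap.pi fun i => (Submodule.subtype _).comp (LinearMap.proj i)).codRestrict (box R a)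
      (fun x => Submodule.mem_pi.2 fun i _ => (x i).2)
  exact Module.Finite.of_surjective f fun x =>
    ⟨fun i => ⟨x.1 i, Submodule.mem_pi.1 x.2 i trivial⟩, rfl⟩

/-- A full rank submodule of `k[X]^r` has a complement of the form `box a`. -/
theorem exists_box_isCompl {k : Type u} [Field k] {r : ℕ} (W : Submodule k[X] (Fin r → k[X]))
    {H : k[X]} (hH : H ≠ 0) (hW : ∀ x, H • x ∈ W) :
    ∃ a : Fin r → ℕ, (∀ b ∈ box k a, b ∈ W → b = 0) ∧
      ∀ x, ∃ b ∈ box k a, x - b ∈ W := by
  classical
  let J : Fin r → Ideal k[X] := fun i =>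
    { carrier := {c | ∃ f ∈ W, f i = c ∧ ∀ j, i < j → f j = 0}
      zero_mem' := ⟨0, W.zero_mem, rfl, fun _ _ => rfl⟩
      add_mem' := by
        rintro _ _ ⟨f, hf, rfl, hf'⟩ ⟨g, hg, rfl, hg'⟩
        exact ⟨f + g, W.add_mem hf hg, rfl, fun j hj => by simp [hf' j hj, hg' j hj]⟩
      smul_mem' := by
        rintro c _ ⟨f, hf, rfl, hf'⟩
        exact ⟨c • f, W.smul_mem c hf, rfl, fun j hj => by simp [hf' j hj]⟩ }
  have hJH : ∀ i, H ∈ J i := fun i =>
    ⟨H • Pi.single i 1, hW _, by simp, fun j hj => by simp [Pi.single_apply, hj.ne']⟩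
  have hJ0 : ∀ i, Submodule.IsPrincipal.generator (J i) ≠ 0 := fun i h => by
    rw [← Submodule.IsPrincipal.eq_bot_iff_generator_eq_zero] at h
    exact hH (by simpa [h] using hJH i)
  let g := fun i => Submodule.IsPrincipal.generator (J i)
  have hg : ∀ i, g i ∈ J i := fun i => Submodule.IsPrincipal.generator_mem _
  refine ⟨fun i => (g i).natDegree, ?_, ?_⟩
  · intro b hb hbW
    by_contra hb0
    obtain ⟨i0, hi0⟩ := Function.ne_iff.1 hb0
    have hne : (Finset.univ.filter fun i => b i ≠ 0).Nonempty := ⟨i0, by simpa using hi0⟩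
    set i := (Finset.univ.filter fun i => b i ≠ 0).max' hne
    have hi : b i ≠ 0 := (Finset.mem_filter.1 (Finset.max'_mem _ hne)).2
    have hz : ∀ j, i < j → b j = 0 := fun j hj => by
      by_contra h
      exact absurd (Finset.le_max' _ j (by simpa using h)) (not_le.2 hj)
    have hmem : b i ∈ J i := ⟨b, hbW, rfl, hz⟩
    rw [Submodule.IsPrincipal.mem_iff_generator_dvd] at hmem
    have h1 := Polynomial.degree_le_of_dvd hmem hi
    rw [Polynomial.degree_eq_natDegree (hJ0 i)] at h1
    exact absurd (h1.trans_lt (mem_box.1 hb i)) (lt_irrefl _)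
  · suffices h : ∀ n : ℕ, ∀ x : Fin r → k[X], (∀ j : Fin r, n ≤ (j : ℕ) → x j = 0) →
        ∃ b ∈ box k fun i => (g i).natDegree, x - b ∈ W from
      fun x => h r x fun j hj => absurd j.2 (by omega)
    intro n
    induction n with
    | zero => exact fun x hx => ⟨0, zero_mem _, by
        rw [show x = 0 from funext fun j => hx j (Nat.zero_le _)]; simp⟩
    | succ n ih =>
      intro x hx
      by_cases hn : n < r
      · set i : Fin r := ⟨n, hn⟩
        obtain ⟨f, hf, hfi, hf'⟩ := hg i
        set q := x i / g i
        set rem := x i % g i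
        set b0 : Fin r → k[X] := Pi.single i rem
        have hb0 : b0 ∈ box k fun i => (g i).natDegree := mem_box.2 fun j => by
          by_cases hj : j = i
          · subst hj
            simp only [b0, Pi.single_eq_same]
            rw [← Polynomial.degree_eq_natDegree (hJ0 _)]
            exact Polynomial.degree_mod_lt _ (hJ0 _)
          · simp [b0, hj]
        obtain ⟨b, hb, hbW⟩ := ih (x - b0 - q • f) (fun j hj => by
          by_cases hji : j = i
          · subst hji
            simp only [Pi.sub_apply, b0, Pi.single_eq_same, Pi.smul_apply, hfi, smul_eq_mul, q, rem]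
            rw [EuclideanDomain.mod_eq_sub_mul_div]
            ring
          · have hij : i < j := lt_of_le_of_ne (show n ≤ (j : ℕ) from hj) (Ne.symm hji)
            have : (n : ℕ) < j := hij
            simp [b0, hji, hx j (by omega), hf' j hij])
        refine ⟨b0 + b, add_mem hb0 hb, ?_⟩
        have := W.add_mem hbW (W.smul_mem q hf)
        rwa [show x - b0 - q • f - b + q • f = x - (b0 + b) by abel] at this
      · exact ih x fun j hj => absurd j.2 (by omega)

variable {R : Type u} [CommRing R] [IsLocalRing R] {r : ℕ}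
  {E : Type v} [AddCommGroup E] [Module R[X] E]

open IsLocalRing

/-- Coefficientwise reduction of vectors. -/
noncomputable def red (R : Type u) [CommRing R] [IsLocalRing R] (r : ℕ) :
    (Fin r → R[X]) →+ (Fin r → (ResidueField R)[X]) where
  toFun x i := (x i).map (residue R)
  map_zero' := by ext1 i; simp
  map_add' x y := by ext1 i; simp

theorem red_surjective : Function.Surjective (red R r) := fun y => by
  choose x hx using fun i => Polynomial.map_surjective _ residue_surjective (y i)
  exact ⟨x, funext hx⟩

theorem red_smul (c : R[X]) (x : Fin r → R[X]) :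
    red R r (c • x) = c.map (residue R) • red R r x := by
  ext1 i; simp [red]

theorem red_single (i : Fin r) (c : R[X]) :
    red R r (Pi.single i c) = Pi.single i (c.map (residue R)) := by
  ext1 j
  by_cases hj : j = i
  · subst hj; simp [red]
  · simp [red, hj]

theorem red_eq_zero {x : Fin r → R[X]} (h : red R r x = 0) :
    x ∈ ((maximalIdeal R).map C) • (⊤ : Submodule R[X] (Fin r → R[X])) := by
  rw [pi_eq_sum_univ x]
  refine Submodule.sum_mem _ fun i _ => Submodule.smul_mem_smul ?_ trivial
  rw [Ideal.mem_map_C_iff]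
  intro n
  rw [← residue_eq_zero_iff, ← Polynomial.coeff_map]
  have := congrFun h i
  simp only [red, AddMonoidHom.coe_mk, ZeroHom.coe_mk, Pi.zero_apply] at this
  rw [this, coeff_zero]

theorem coeff_mem_of_red {x : Fin r → R[X]} (h : red R r x = 0) (i : Fin r) (n : ℕ) :
    (x i).coeff n ∈ maximalIdeal R := by
  rw [← residue_eq_zero_iff, ← Polynomial.coeff_map]
  have := congrFun h i
  simp only [red, AddMonoidHom.coe_mk, ZeroHom.coe_mk, Pi.zero_apply] at this
  rw [this, coeff_zero]

theorem exists_lift_box {a : Fin r → ℕ} {b : Fin r → (ResidueField R)[X]}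
    (hb : b ∈ box (ResidueField R) a) : ∃ b' ∈ box R a, red R r b' = b := by
  have h : ∀ i, ∃ p : R[X], p.map (residue R) = b i ∧ p.degree = (b i).degree := fun i =>
    Polynomial.mem_lifts_and_degree_eq (Polynomial.map_surjective _ residue_surjective (b i))
  choose p hp hd using h
  exact ⟨p, mem_box.2 fun i => by rw [hd]; exact mem_box.1 hb i, funext hp⟩

/-- Horrocks' theorem, local case. -/
theorem free_of_monic [Module.Finite R[X] E] [Module.Projective R[X] E]
    (u : E →ₗ[R[X]] (Fin r → R[X])) (v : (Fin r → R[X]) →ₗ[R[X]] E) (H : R[X]) (hH : H.Monic)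
    (huv : ∀ x, u (v x) = H • x) (hvu : ∀ x, v (u x) = H • x) :
    Nonempty ((Fin r → R[X]) ≃ₗ[R[X]] E) := by
  classical
  let := Module.compHom E (C : R →+* R[X])
  have : IsScalarTower R R[X] E := ⟨fun c p x => by
    show (c • p) • x = C c • p • x
    rw [← smul_assoc, smul_eq_mul, Polynomial.smul_eq_C_mul]⟩
  set k := ResidueField R
  have hH0 : H.map (residue R) ≠ 0 := (hH.map _).ne_zero
  set W : Submodule k[X] (Fin r → k[X]) := Submodule.span k[X] (Set.range fun e => red R r (u e))
  have hWeq : ∀ y ∈ W, ∃ e, red R r (u e) = y := fun y hy => by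
    induction hy using Submodule.span_induction with
    | mem y hy => exact hy
    | zero => exact ⟨0, by simp⟩
    | add y z _ _ hy hz =>
      obtain ⟨e, rfl⟩ := hy; obtain ⟨e', rfl⟩ := hz
      exact ⟨e + e', by simp⟩
    | smul c y _ hy =>
      obtain ⟨e, rfl⟩ := hy
      obtain ⟨c, rfl⟩ := Polynomial.map_surjective _ residue_surjective c
      exact ⟨c • e, by rw [map_smul, red_smul]⟩
  have hHW : ∀ y, H.map (residue R) • y ∈ W := fun y => by
    obtain ⟨x, rfl⟩ := red_surjective (R := R) (r := r) y
    rw [← red_smul, ← huv]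
    exact Submodule.subset_span ⟨v x, rfl⟩
  obtain ⟨a, hint, hsum⟩ := exists_box_isCompl W hH0 hHW
  -- Nakayama: everything is congruent to the box modulo the image of `u`
  set U : Submodule R[X] (Fin r → R[X]) := LinearMap.range u
  have hfinQ : Module.Finite R ((Fin r → R[X]) ⧸ U) := by
    have hd : ∀ x, H • x ∈ U := fun x => ⟨v x, huv x⟩
    refine ⟨⟨(Finset.univ : Finset (Fin r × Fin H.natDegree)).image fun ij =>
      Submodule.Quotient.mk (Pi.single ij.1 ((X : R[X]) ^ (ij.2 : ℕ))), eq_top_iff.2 ?_⟩⟩
    rintro q -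
    obtain ⟨x, rfl⟩ := Submodule.Quotient.mk_surjective _ q
    have hx : Submodule.Quotient.mk x =
        (Submodule.Quotient.mk (p := U) (fun i => x i %ₘ H)) := by
      rw [Submodule.Quotient.eq]
      convert hd (fun i => x i /ₘ H) using 1
      ext1 i
      simp only [Pi.sub_apply, Pi.smul_apply, smul_eq_mul]
      linear_combination -(Polynomial.modByMonic_add_div (x i) H)
    rw [hx, ← Finset.univ_sum_single (fun i => x i %ₘ H),
      ← Submodule.mkQ_apply, map_sum]
    refine Submodule.sum_mem _ fun i _ => ?_
    by_cases hn : H = 1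
    · simp [hn]
    rw [Polynomial.as_sum_range' (x i %ₘ H) H.natDegree (Polynomial.natDegree_modByMonic_lt _ hH hn)]
    rw [Finset.sum_range, ← LinearMap.single_apply (R := R[X]), map_sum, map_sum]
    refine Submodule.sum_mem _ fun j _ => ?_
    rw [← Polynomial.C_mul_X_pow_eq_monomial, LinearMap.single_apply, ← smul_eq_mul,
      Pi.single_smul', Submodule.mkQ_apply, Submodule.Quotient.mk_smul,
      ← Polynomial.algebraMap_eq, algebraMap_smul]
    exact Submodule.smul_mem _ _ (Submodule.subset_span (by simp))
  have hbox : ∀ x, ∃ b ∈ box R a, x - b ∈ U := by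
    set B : Submodule R ((Fin r → R[X]) ⧸ U) :=
      (box R a).map (U.mkQ.restrictScalars R)
    suffices h : B = ⊤ by
      intro x
      obtain ⟨b, hb, hbx⟩ := (h ▸ Submodule.mem_top : U.mkQ x ∈ B)
      exact ⟨b, hb, (Submodule.Quotient.eq _).1 hbx.symm⟩
    refine eq_top_iff.2 (Submodule.le_of_le_smul_of_le_jacobson_bot hfinQ.fg_top
      (maximalIdeal_le_jacobson ⊥) ?_)
    rintro q -
    obtain ⟨x, rfl⟩ := Submodule.Quotient.mk_surjective _ q
    obtain ⟨b, hb, hbW⟩ := hsum (red R r x)
    obtain ⟨b', hb', rfl⟩ := exists_lift_box hb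
    obtain ⟨e, he⟩ := hWeq _ hbW
    rw [← map_sub, ← sub_eq_zero, ← map_sub] at he
    have hsplit : Submodule.Quotient.mk (p := U) x =
        U.mkQ b' + Submodule.Quotient.mk (p := U) (-(u e - (x - b'))) := by
      have h0 : Submodule.Quotient.mk (p := U) (u e) = 0 :=
        (Submodule.Quotient.mk_eq_zero _).2 ⟨e, rfl⟩
      simp [h0]
    rw [hsplit]
    refine Submodule.add_mem_sup ⟨b', hb', rfl⟩ ?_
    set z := -(u e - (x - b'))
    have hz : red R r z = 0 := by simp only [z, map_neg, he, neg_zero]
    rw [← Finset.univ_sum_single z, ← Submodule.mkQ_apply, map_sum]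
    refine Submodule.sum_mem _ fun i _ => ?_
    rw [Polynomial.as_sum_range (z i), ← LinearMap.single_apply (R := R[X]), map_sum, map_sum]
    refine Submodule.sum_mem _ fun j _ => ?_
    rw [← Polynomial.C_mul_X_pow_eq_monomial, LinearMap.single_apply, ← smul_eq_mul,
      Pi.single_smul', Submodule.mkQ_apply, Submodule.Quotient.mk_smul,
      ← Polynomial.algebraMap_eq, algebraMap_smul]
    exact Submodule.smul_mem_smul (coeff_mem_of_red hz i j) trivial
  choose bb hbb hbbU using fun i => hbox (Pi.single i (X ^ a i))
  choose e he using hbbU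
  let w : (Fin r → R[X]) →ₗ[R[X]] E := Fintype.linearCombination R[X] e
  set S : Submodule R[X] (Fin r → R[X]) := LinearMap.range (u ∘ₗ w)
  set T : Submodule R (Fin r → R[X]) := S.restrictScalars R ⊔ box R a
  have hS : ∀ i, u (e i) ∈ S := fun i => ⟨Pi.single i 1, by simp [w]⟩
  have hlead : ∀ i, Pi.single i ((X : R[X]) ^ a i) ∈ T := fun i => by
    have : Pi.single i ((X : R[X]) ^ a i) = u (e i) + bb i := by rw [he i]; abel
    rw [this]
    exact Submodule.add_mem_sup (hS i) (hbb i)
  have hX : ∀ x ∈ T, (X : R[X]) • x ∈ T := by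
    intro x hx
    obtain ⟨s, hs, b, hb, rfl⟩ := Submodule.mem_sup.1 hx
    rw [smul_add]
    refine add_mem (Submodule.mem_sup_left (S.smul_mem _ hs)) ?_
    rw [← Finset.univ_sum_single b, Finset.smul_sum]
    refine Submodule.sum_mem _ fun i _ => ?_
    rw [← Pi.single_smul', smul_eq_mul]
    have hbi := mem_box.1 hb i
    rcases eq_or_ne (a i) 0 with hai | hai
    · rw [hai] at hbi
      have : b i = 0 := Polynomial.degree_eq_bot.1 (Nat.WithBot.lt_zero_iff.1 (by simpa using hbi))
      simp [this]
    have hsplit : X * b i = ((b i).coeff (a i - 1)) • X ^ a i +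
        (X * b i - ((b i).coeff (a i - 1)) • X ^ a i) := by ring
    rw [hsplit, Pi.single_add, Pi.single_smul']
    refine add_mem (T.smul_mem _ (hlead i)) (Submodule.mem_sup_right ?_)
    refine mem_box.2 fun j => ?_
    by_cases hj : j = i
    swap
    · simp [hj]
    subst hj
    rw [Pi.single_eq_same, Polynomial.degree_lt_iff_coeff_zero]
    intro m hm
    obtain ⟨m, rfl⟩ : ∃ m', m = m' + 1 := ⟨m - 1, by omega⟩
    rw [coeff_sub, coeff_smul, coeff_X_mul, coeff_X_pow]
    rcases eq_or_ne (m + 1) (a j) with h | h
    · simp [← h]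
    · rw [if_neg h, smul_zero, sub_zero]
      exact Polynomial.degree_lt_iff_coeff_zero _ _ |>.1 hbi m (by omega)
  have hT : ∀ x, x ∈ T := by
    have hone : ∀ i, Pi.single i (1 : R[X]) ∈ T := fun i => by
      rcases eq_or_ne (a i) 0 with hai | hai
      · simpa [hai] using hlead i
      · refine Submodule.mem_sup_right (mem_box.2 fun j => ?_)
        by_cases hj : j = i
        · subst hj
          simpa using Nat.pos_of_ne_zero hai
        · simp [hj]
    have hmul : ∀ (c : R[X]), ∀ x ∈ T, c • x ∈ T := fun c => by
      induction c using Polynomial.induction_on' with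
      | add p q hp hq => exact fun x hx => by rw [add_smul]; exact add_mem (hp x hx) (hq x hx)
      | monomial n d =>
        intro x hx
        rw [← Polynomial.C_mul_X_pow_eq_monomial, mul_smul, ← Polynomial.algebraMap_eq,
          algebraMap_smul]
        refine T.smul_mem _ ?_
        induction n with
        | zero => simpa using hx
        | succ n ih => rw [pow_succ', mul_smul]; exact hX _ ih
    intro x
    rw [pi_eq_sum_univ' x]
    exact Submodule.sum_mem _ fun i _ => hmul _ _ (by simpa using hone i)
  have hfinS : Module.Finite R ((Fin r → R[X]) ⧸ S) := by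
    have := box_finite R a
    refine Module.Finite.of_surjective (S.mkQ.restrictScalars R ∘ₗ (box R a).subtype) fun q => ?_
    obtain ⟨x, rfl⟩ := Submodule.Quotient.mk_surjective _ q
    obtain ⟨s, hs, b, hb, rfl⟩ := Submodule.mem_sup.1 (hT x)
    refine ⟨⟨b, hb⟩, ?_⟩
    simpa using hs
  obtain ⟨G, hG, hG0⟩ := LinearMap.exists_monic_and_aeval_eq_zero R
    ((LinearMap.lsmul R[X] ((Fin r → R[X]) ⧸ S) X).restrictScalars R)
  have hGS : ∀ x, G • x ∈ S := by
    intro x
    rw [← Submodule.Quotient.mk_eq_zero, Submodule.Quotient.mk_smul]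
    have h1 : Polynomial.aeval ((LinearMap.lsmul R[X] ((Fin r → R[X]) ⧸ S) X).restrictScalars R) G
        = (Algebra.lsmul R R ((Fin r → R[X]) ⧸ S) : R[X] →ₐ[R] _) G := by
      rw [show ((LinearMap.lsmul R[X] ((Fin r → R[X]) ⧸ S) X).restrictScalars R) =
        (Algebra.lsmul R R ((Fin r → R[X]) ⧸ S) : R[X] →ₐ[R] _) X from rfl,
        Polynomial.aeval_algHom_apply, Polynomial.aeval_X_left_apply]
    rw [h1] at hG0
    exact LinearMap.congr_fun hG0 (Submodule.Quotient.mk x)
  have hu : Function.Injective u := by
    obtain ⟨m, p, i, -, hi, hpi⟩ := Module.Finite.exists_comp_eq_id_of_projective R[X] E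
    refine (injective_iff_map_eq_zero u).2 fun x hx => hi ?_
    rw [map_zero]
    have h1 : H • i x = 0 := by rw [← map_smul, ← hvu, hx, map_zero, map_zero]
    ext1 j
    exact (hH.mul_right_eq_zero_iff).1 (by simpa using congrFun h1 j)
  -- `u` is injective modulo the maximal ideal
  set IX : Ideal R[X] := (maximalIdeal R).map C
  have hured : ∀ y : E, red R r (u y) = 0 → y ∈ IX • (⊤ : Submodule R[X] E) := by
    intro y hy
    obtain ⟨m, p, i, -, hi, hpi⟩ := Module.Finite.exists_comp_eq_id_of_projective R[X] E
    have h1 : H • y ∈ IX • (⊤ : Submodule R[X] E) := by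
      rw [← hvu]
      have := Submodule.mem_map_of_mem (f := v) (red_eq_zero hy)
      rw [Submodule.map_smul''] at this
      exact Submodule.smul_mono le_rfl le_top this
    have h2 : H • i y ∈ IX • (⊤ : Submodule R[X] (Fin m → R[X])) := by
      rw [← map_smul]
      have := Submodule.mem_map_of_mem (f := i) h1
      rw [Submodule.map_smul''] at this
      exact Submodule.smul_mono le_rfl le_top this
    have h3 : ∀ (z : Fin m → R[X]), z ∈ IX • (⊤ : Submodule R[X] (Fin m → R[X])) →
        red R m z = 0 := by
      intro z hz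
      induction hz using Submodule.smul_induction_on' with
      | smul c hc n _ =>
        rw [red_smul]
        have : c.map (residue R) = 0 := by
          ext n
          rw [coeff_map, coeff_zero, residue_eq_zero_iff]
          exact Ideal.mem_map_C_iff.1 hc n
        rw [this, zero_smul]
      | add z _ z' _ hz hz' => rw [map_add, hz, hz', add_zero]
    have h4 := h3 _ h2
    rw [red_smul] at h4
    have h5 : red R m (i y) = 0 := funext fun j =>
      (mul_eq_zero.1 (by simpa using congrFun h4 j)).resolve_left hH0
    have h6 := Submodule.mem_map_of_mem (f := p) (red_eq_zero h5)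
    rw [Submodule.map_smul'', ← LinearMap.comp_apply, hpi, LinearMap.id_apply] at h6
    exact Submodule.smul_mono le_rfl le_top h6
  -- surjectivity of `w`
  have hwsur : Function.Surjective w := by
    set Wr : Submodule R E := (LinearMap.range w).restrictScalars R
    have hfinE : Module.Finite R (E ⧸ LinearMap.range w) := by
      obtain ⟨s, hs⟩ := (inferInstance : Module.Finite R[X] E).fg_top
      refine ⟨⟨(s ×ˢ Finset.range G.natDegree).image fun xj =>
        Submodule.Quotient.mk ((X : R[X]) ^ xj.2 • xj.1), eq_top_iff.2 ?_⟩⟩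
      rintro q -
      obtain ⟨x, rfl⟩ := Submodule.Quotient.mk_surjective _ q
      have hx : x ∈ Submodule.span R[X] (s : Set E) := hs ▸ Submodule.mem_top
      induction hx using Submodule.span_induction with
      | mem y hy =>
        by_cases hG1 : G.natDegree = 0
        · have hG' : G = 1 := hG.natDegree_eq_zero.1 hG1
          have := hGS (u y)
          rw [hG', one_smul] at this
          obtain ⟨z, hz⟩ := this
          rw [(Submodule.Quotient.mk_eq_zero _).2 (show y ∈ LinearMap.range w from ⟨z, hu hz⟩)]
          exact zero_mem _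
        · refine Submodule.subset_span ?_
          simp only [Finset.coe_image, Set.mem_image, Finset.mem_coe, Finset.mem_product,
            Finset.mem_range]
          exact ⟨(y, 0), ⟨hy, Nat.pos_of_ne_zero hG1⟩, by simp⟩
      | zero => exact zero_mem _
      | add y z _ _ hy hz => rw [Submodule.Quotient.mk_add]; exact add_mem hy hz
      | smul c y _ hy =>
        rw [Submodule.Quotient.mk_smul]
        generalize Submodule.Quotient.mk (p := LinearMap.range w) y = q at hy
        induction hy using Submodule.span_induction with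
        | mem q hq =>
          simp only [Finset.coe_image, Set.mem_image, Finset.mem_coe, Finset.mem_product] at hq
          obtain ⟨⟨z, j⟩, ⟨hz, -⟩, rfl⟩ := hq
          rw [← Submodule.Quotient.mk_smul, smul_smul]
          set d := c * X ^ j
          have hd : d • z - (d %ₘ G) • z ∈ LinearMap.range w := by
            rw [← sub_smul, show d - d %ₘ G = G * (d /ₘ G) by
              linear_combination -(Polynomial.modByMonic_add_div d G), mul_smul]
            obtain ⟨y', hy'⟩ := hGS (u ((d /ₘ G) • z))
            exact ⟨y', hu (by rw [map_smul]; exact hy')⟩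
          rw [(Submodule.Quotient.eq _).2 hd]
          by_cases hn : G = 1
          · simp [hn]
          rw [Polynomial.as_sum_range' (d %ₘ G) G.natDegree
            (Polynomial.natDegree_modByMonic_lt _ hG hn), Finset.sum_smul,
            ← Submodule.mkQ_apply, map_sum]
          refine Submodule.sum_mem _ fun i hi => ?_
          rw [← Polynomial.C_mul_X_pow_eq_monomial, mul_smul, ← Polynomial.algebraMap_eq,
            algebraMap_smul, LinearMap.map_smul_of_tower]
          refine Submodule.smul_mem _ _ (Submodule.subset_span ?_)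
          simp only [Finset.coe_image, Set.mem_image, Finset.mem_coe, Finset.mem_product]
          exact ⟨(z, i), ⟨hz, hi⟩, rfl⟩
        | zero => simp
        | add q q' _ _ hq hq' => rw [smul_add]; exact add_mem hq hq'
        | smul d q _ hq => rw [smul_comm]; exact Submodule.smul_mem _ d hq
    intro x
    suffices h : (⊤ : Submodule R (E ⧸ LinearMap.range w)) = ⊥ by
      obtain ⟨y, hy⟩ := (Submodule.Quotient.mk_eq_zero _).1
        ((Submodule.mem_bot R).1 (h ▸ Submodule.mem_top :
          Submodule.Quotient.mk (p := LinearMap.range w) x ∈ (⊥ : Submodule R _)))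
      exact ⟨y, hy⟩
    refine Submodule.eq_bot_of_le_smul_of_le_jacobson_bot _ _ hfinE.fg_top ?_
      (maximalIdeal_le_jacobson ⊥)
    rintro q -
    obtain ⟨x, rfl⟩ := Submodule.Quotient.mk_surjective _ q
    obtain ⟨s, hs, b, hb, hsb⟩ := Submodule.mem_sup.1 (hT (u x))
    obtain ⟨c, rfl⟩ := hs
    have hbW : red R r b ∈ W := by
      rw [show b = u x - u (w c) by rw [← hsb]; simp, ← map_sub]
      exact Submodule.subset_span ⟨x - w c, rfl⟩
    have hb' : red R r b ∈ box (ResidueField R) a := mem_box.2 fun i =>
      lt_of_le_of_lt Polynomial.degree_map_le (mem_box.1 hb i)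
    have hy : red R r (u (x - w c)) = 0 := by
      rw [map_sub u, ← hsb]; simpa using hint _ hb' hbW
    have hzero : Submodule.Quotient.mk (p := LinearMap.range w) x =
        Submodule.Quotient.mk (x - w c) := (Submodule.Quotient.eq _).2 ⟨c, by abel⟩
    rw [hzero]
    generalize x - w c = y at hy ⊢
    have hy' := hured y hy
    clear hy
    induction hy' using Submodule.smul_induction_on' with
    | smul d hd n _ =>
      rw [Submodule.Quotient.mk_smul, Polynomial.as_sum_range d, Finset.sum_smul]
      refine Submodule.sum_mem _ fun i _ => ?_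
      rw [← Polynomial.C_mul_X_pow_eq_monomial, mul_smul, ← Polynomial.algebraMap_eq,
        algebraMap_smul]
      exact Submodule.smul_mem_smul (Ideal.mem_map_C_iff.1 hd i) trivial
    | add y _ z _ hy hz => rw [Submodule.Quotient.mk_add]; exact add_mem hy hz
  obtain ⟨s, hs⟩ := Module.projective_lifting_property w LinearMap.id hwsur
  have hdet : (LinearMap.det (u ∘ₗ w)) * LinearMap.det (s ∘ₗ v) = H ^ r := by
    rw [← map_mul, Module.End.mul_eq_comp,
      show (u ∘ₗ w) ∘ₗ (s ∘ₗ v) = H • LinearMap.id by
        refine LinearMap.ext fun x => ?_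
        show u (w (s (v x))) = H • x
        rw [← LinearMap.comp_apply w s, hs]
        exact huv x,
      LinearMap.det_smul, LinearMap.det_id, mul_one, Module.finrank_fin_fun]
  have hwinj : Function.Injective w := by
    refine (injective_iff_map_eq_zero w).2 fun x hx => ?_
    set M := LinearMap.toMatrix' (u ∘ₗ w)
    have h1 : M.mulVec x = 0 := by
      rw [← Matrix.toLin'_apply, Matrix.toLin'_toMatrix']; simp [hx]
    have h2 := congrArg (M.adjugate.mulVec) h1
    rw [Matrix.mulVec_mulVec, Matrix.adjugate_mul, Matrix.smul_mulVec, Matrix.one_mulVec,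
      Matrix.mulVec_zero] at h2
    have h3 : (H ^ r) • x = 0 := by
      rw [← hdet, mul_comm, mul_smul]
      simp only [M, LinearMap.det_toMatrix'] at h2
      rw [h2, smul_zero]
    ext1 j
    exact ((hH.pow r).mul_right_eq_zero_iff).1 (by simpa using congrFun h3 j)
  exact ⟨LinearEquiv.ofBijective w ⟨hwinj, hwsur⟩⟩

end Groth.Agent.CAlg.Horrocks
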