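import Mathlib

/-!
Quillen patching for idempotent matrices over `R[X]`: if `im P` is locally (on `R`) free then it is
extended from `R`.
-/

open Polynomial

namespace Groth.Agent.CAlg.Horrocks

universe u v

/-- The weak localisation property used to clear denominators. -/
structure IsAwayLike {R : Type u} {A : Type v} [CommRing R] [CommRing A] (φ : R →+* A) (a : R) :
    Prop where
  surj : ∀ y, ∃ (n : ℕ) (x : R), φ x = φ a ^ n * y
  ker : ∀ x, φ x = 0 → ∃ n : ℕ, a ^ n * x = 0

theorem IsAwayLike.of_isLocalization {R : Type u} {A : Type v} [CommRing R] [CommRing A]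
    [Algebra R A] (a : R) [IsLocalization.Away a A] : IsAwayLike (algebraMap R A) a where
  surj y := by
    obtain ⟨n, x, h⟩ := IsLocalization.Away.surj a y
    exact ⟨n, x, by rw [← h, mul_comm]⟩
  ker x hx := by
    obtain ⟨⟨_, n, rfl⟩, h⟩ :=
      (IsLocalization.map_eq_zero_iff (Submonoid.powers a) A x).1 hx
    exact ⟨n, h⟩

theorem IsAwayLike.polynomial {R : Type u} {A : Type v} [CommRing R] [CommRing A]
    {φ : R →+* A} {a : R} (h : IsAwayLike φ a) :
    IsAwayLike (Polynomial.mapRingHom φ) (C a) where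
  surj y := by
    induction y using Polynomial.induction_on' with
    | add p q hp hq =>
      obtain ⟨m, x, hx⟩ := hp
      obtain ⟨n, z, hz⟩ := hq
      refine ⟨m + n, C a ^ n * x + C a ^ m * z, ?_⟩
      rw [map_add, map_mul, map_mul, map_pow, map_pow, hx, hz]
      ring
    | monomial k y =>
      obtain ⟨n, x, hx⟩ := h.surj y
      exact ⟨n, monomial k x, by simp [hx, ← map_pow, Polynomial.C_mul_monomial]⟩
  ker x hx := by
    have : ∀ i, ∃ n, a ^ n * x.coeff i = 0 := fun i => h.ker _ (by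
      simpa using congrArg (fun p => p.coeff i) hx)
    choose n hn using this
    refine ⟨x.support.sup n, Polynomial.ext fun i => ?_⟩
    rw [← map_pow, coeff_C_mul, coeff_zero]
    by_cases hi : i ∈ x.support
    · obtain ⟨d, hd⟩ := Nat.exists_eq_add_of_le (Finset.le_sup (f := n) hi)
      rw [hd, pow_add, mul_comm (a ^ n i), mul_assoc, hn, mul_zero]
    · simp [notMem_support_iff.1 hi]

variable {R : Type u} [CommRing R]

/-- `X ↦ X + c Y`. -/
noncomputable def shift (c : R) : R[X] →+* R[X][X] :=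
  Polynomial.eval₂RingHom (C.comp C) (C X + C (C c) * X)

/-- `X ↦ X + c Y`, `Y ↦ Y`. -/
noncomputable def transl (c : R) : R[X][X] →+* R[X][X] :=
  Polynomial.eval₂RingHom (shift c) X

/-- `Y ↦ c Y`. -/
noncomputable def scale (c : R) : R[X][X] →+* R[X][X] :=
  Polynomial.eval₂RingHom C (C (C c) * X)

theorem transl_comp_C (c : R) : (transl c).comp C = shift c := by
  ext <;> simp [transl]

theorem transl_comp_shift (c d : R) : (transl c).comp (shift d) = shift (c + d) := by
  refine Polynomial.ringHom_ext (fun p => ?_) ?_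
  · simp [transl, shift]
  · simp [transl, shift]; ring

theorem scale_comp_C (c : R) : (scale c).comp C = C := by
  ext <;> simp [scale]

theorem scale_comp_shift (c d : R) : (scale c).comp (shift d) = shift (d * c) := by
  ext <;> simp [scale, shift, mul_assoc]

theorem shift_zero : shift (0 : R) = C := by
  ext <;> simp [shift]

theorem evalRingHom_comp_shift (c : R) : (evalRingHom 0).comp (shift c) = RingHom.id _ := by
  ext <;> simp [shift]

theorem evalRingHom_comp_transl (c : R) :
    (evalRingHom 0).comp (transl c) = evalRingHom 0 := by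
  refine Polynomial.ringHom_ext (fun p => ?_) (by simp [transl])
  simpa [transl] using RingHom.congr_fun (evalRingHom_comp_shift c) p

theorem evalRingHom_comp_scale (c : R) :
    (evalRingHom 0).comp (scale c) = evalRingHom 0 := by
  refine Polynomial.ringHom_ext (fun p => ?_) (by simp [scale])
  simp [scale]

theorem scale_scale (c d : R) : (scale c).comp (scale d) = scale (d * c) := by
  refine Polynomial.ringHom_ext (fun p => by simp [scale]) ?_
  simp [scale, mul_assoc]

section Map
variable {A : Type v} [CommRing A] (φ : R →+* A)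

theorem map_comp_shift (c : R) :
    (mapRingHom (mapRingHom φ)).comp (shift c) = (shift (φ c)).comp (mapRingHom φ) := by
  ext <;> simp [shift]

theorem map_comp_scale (c : R) :
    (mapRingHom (mapRingHom φ)).comp (scale c) = (scale (φ c)).comp (mapRingHom (mapRingHom φ)) := by
  refine Polynomial.ringHom_ext (fun p => ?_) ?_ <;> simp [scale]

end Map

variable {ι : Type*} [Fintype ι] [DecidableEq ι]

/-- Two idempotents with mutually inverse maps between their images. -/
def Equivalent {S : Type*} [CommRing S] {ι κ : Type*} [Fintype ι] [Fintype κ]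
    (P : Matrix ι ι S) (Q : Matrix κ κ S) (U : Matrix ι κ S) (V : Matrix κ ι S) : Prop :=
  U * V = P ∧ V * U = Q ∧ P * U = U ∧ U * Q = U ∧ Q * V = V ∧ V * P = V

theorem Equivalent.map {S T : Type*} [CommRing S] [CommRing T] {ι κ : Type*} [Fintype ι]
    [Fintype κ] {P : Matrix ι ι S} {Q : Matrix κ κ S} {U : Matrix ι κ S} {V : Matrix κ ι S}
    (h : Equivalent P Q U V) (f : S →+* T) :
    Equivalent (P.map f) (Q.map f) (U.map f) (V.map f) := by
  obtain ⟨h1, h2, h3, h4, h5, h6⟩ := h
  refine ⟨?_, ?_, ?_, ?_, ?_, ?_⟩ <;> rw [← Matrix.map_mul] <;> congr 1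

theorem Equivalent.trans {S : Type*} [CommRing S] {ι κ μ : Type*} [Fintype ι] [Fintype κ]
    [Fintype μ] {P : Matrix ι ι S} {Q : Matrix κ κ S} {R' : Matrix μ μ S} {U : Matrix ι κ S}
    {V : Matrix κ ι S} {U' : Matrix κ μ S} {V' : Matrix μ κ S}
    (h : Equivalent P Q U V) (h' : Equivalent Q R' U' V') :
    Equivalent P R' (U * U') (V' * V) := by
  obtain ⟨h1, h2, h3, h4, h5, h6⟩ := h
  obtain ⟨k1, k2, k3, k4, k5, k6⟩ := h'
  refine ⟨?_, ?_, ?_, ?_, ?_, ?_⟩
  · rw [Matrix.mul_assoc, ← Matrix.mul_assoc U', k1, h5, h1]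
  · rw [Matrix.mul_assoc, ← Matrix.mul_assoc V, h2, k3, k2]
  · rw [← Matrix.mul_assoc, h3]
  · rw [Matrix.mul_assoc, k4]
  · rw [← Matrix.mul_assoc, k5]
  · rw [Matrix.mul_assoc, h6]

theorem Equivalent.symm {S : Type*} [CommRing S] {ι κ : Type*} [Fintype ι] [Fintype κ]
    {P : Matrix ι ι S} {Q : Matrix κ κ S} {U : Matrix ι κ S} {V : Matrix κ ι S}
    (h : Equivalent P Q U V) : Equivalent Q P V U := by
  obtain ⟨h1, h2, h3, h4, h5, h6⟩ := h
  exact ⟨h2, h1, h5, h6, h3, h4⟩

theorem Equivalent.refl {S : Type*} [CommRing S] {ι : Type*} [Fintype ι]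
    {P : Matrix ι ι S} (h : P * P = P) : Equivalent P P P P :=
  ⟨h, h, h, h, h, h⟩

/-- `im P` is invariant under the translation `X ↦ X + c Y`, compatibly with the identity at
`Y = 0`. -/
def TranslInv (P : Matrix ι ι R[X]) (c : R) : Prop :=
  ∃ U V : Matrix ι ι R[X][X],
    Equivalent (P.map C) (P.map (shift c)) U V ∧
      U.map (evalRingHom 0) = P ∧ V.map (evalRingHom 0) = P

variable {P : Matrix ι ι R[X]}

/-- The set of `c` with `TranslInv P c` is an ideal. -/
def translIdeal (hP : P * P = P) : Ideal R where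
  carrier := {c | TranslInv P c}
  zero_mem' := by
    refine ⟨P.map C, P.map C, ?_, ?_, ?_⟩
    · rw [shift_zero]; exact (Equivalent.refl hP).map C
    all_goals ext1 i j; simp
  add_mem' := by
    rintro c d ⟨U, V, h, hU, hV⟩ ⟨U', V', h', hU', hV'⟩
    refine ⟨U * U'.map (transl c), V'.map (transl c) * V, ?_, ?_, ?_⟩
    · have h2 := h'.map (transl c)
      simp only [Matrix.map_map, ← RingHom.coe_comp, transl_comp_C, transl_comp_shift] at h2
      exact h.trans h2
    · rw [Matrix.map_mul, Matrix.map_map, ← RingHom.coe_comp, evalRingHom_comp_transl, hU, hU', hP]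
    · rw [Matrix.map_mul, Matrix.map_map, ← RingHom.coe_comp, evalRingHom_comp_transl, hV, hV', hP]
  smul_mem' := by
    rintro c d ⟨U, V, h, hU, hV⟩
    refine ⟨U.map (scale c), V.map (scale c), ?_, ?_, ?_⟩
    · have h2 := h.map (scale c)
      simp only [Matrix.map_map, ← RingHom.coe_comp, scale_comp_C, scale_comp_shift] at h2
      rw [smul_eq_mul, mul_comm]
      exact h2
    · rw [Matrix.map_map, ← RingHom.coe_comp, evalRingHom_comp_scale, hU]
    · rw [Matrix.map_map, ← RingHom.coe_comp, evalRingHom_comp_scale, hV]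

theorem exists_lift_scale {A : Type v} [CommRing A] {φ : R →+* A} {a : R} (h : IsAwayLike φ a)
    (p : R[X]) (q : A[X][X]) (hq : q.eval 0 = p.map φ) :
    ∃ N : ℕ, ∀ n, N ≤ n → ∃ q' : R[X][X],
      mapRingHom (mapRingHom φ) q' = scale (φ a ^ n) q ∧ q'.eval 0 = p := by
  obtain ⟨q₁, hq₁⟩ : X ∣ q - C (p.map φ) := by
    rw [X_dvd_iff, coeff_sub, coeff_C_zero, coeff_zero_eq_eval_zero, hq, sub_self]
  obtain ⟨N, x, hx⟩ := h.polynomial.polynomial.surj q₁
  refine ⟨N, fun n hn => ?_⟩
  obtain ⟨d, rfl⟩ := Nat.exists_eq_add_of_le hn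
  refine ⟨C p + C (C (a ^ d)) * X * scale (a ^ (N + d)) x, ?_, by simp⟩
  have hscale := RingHom.congr_fun (map_comp_scale φ (a ^ (N + d))) x
  simp only [RingHom.comp_apply] at hscale
  rw [map_add, map_mul, map_mul, hscale, hx]
  rw [sub_eq_iff_eq_add] at hq₁
  rw [hq₁]
  have eC : ∀ z : A[X], scale (φ a ^ (N + d)) (C z) = C z := fun z => by simp [scale]
  have eX : scale (φ a ^ (N + d)) X = C (C (φ a ^ (N + d))) * X := by simp [scale]
  simp only [coe_mapRingHom, map_C, map_pow φ, map_X, map_add, map_mul, map_pow (scale _), eC, eX]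
  simp only [pow_add, map_pow, map_mul]
  ring

theorem exists_scale_eq_zero {A : Type v} [CommRing A] {φ : R →+* A} {a : R} (h : IsAwayLike φ a)
    (q : R[X][X]) (hq0 : q.eval 0 = 0) (hq : mapRingHom (mapRingHom φ) q = 0) :
    ∃ N : ℕ, ∀ n, N ≤ n → scale (a ^ n) q = 0 := by
  obtain ⟨q₁, rfl⟩ : X ∣ q := by rw [X_dvd_iff, coeff_zero_eq_eval_zero, hq0]
  have h1 : mapRingHom (mapRingHom φ) q₁ = 0 := by
    rw [map_mul, coe_mapRingHom, map_X] at hq
    exact Polynomial.monic_X.mul_right_eq_zero_iff.1 hq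
  obtain ⟨N, hN⟩ := h.polynomial.polynomial.ker q₁ h1
  refine ⟨N, fun n hn => ?_⟩
  obtain ⟨d, rfl⟩ := Nat.exists_eq_add_of_le hn
  have h2 : C (C a) ^ N * scale (a ^ (N + d)) q₁ = 0 := by
    have := congrArg (scale (a ^ (N + d))) hN
    rw [map_mul, map_pow, map_zero] at this
    simpa [scale] using this
  rw [map_mul]
  simp only [scale, coe_eval₂RingHom, eval₂_X] at h2 ⊢
  rw [pow_add, map_mul, map_mul, map_pow C, map_pow C] at h2 ⊢
  linear_combination (C (C (a ^ d)) * X) * h2

/-- Local freeness gives translation invariance near a maximal ideal. -/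
theorem translInv_pow_of_free {A : Type v} [CommRing A] (hP : P * P = P) {φ : R →+* A} {a : R}
    (h : IsAwayLike φ a) {r : ℕ} (K : Matrix ι (Fin r) A[X]) (D : Matrix (Fin r) ι A[X])
    (hKD : P.map (mapRingHom φ) = K * D) (hDK : D * K = 1) :
    ∃ N : ℕ, TranslInv P (a ^ N) := by
  set PA := P.map (mapRingHom φ)
  have hK : Equivalent PA (1 : Matrix (Fin r) (Fin r) A[X]) K D := by
    refine ⟨hKD.symm, hDK, ?_, Matrix.mul_one _, Matrix.one_mul _, ?_⟩
    · rw [hKD, Matrix.mul_assoc, hDK, Matrix.mul_one]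
    · rw [hKD, ← Matrix.mul_assoc, hDK, Matrix.one_mul]
  have hC : Equivalent (PA.map C) (PA.map (shift 1)) (K.map C * D.map (shift 1))
      (K.map (shift 1) * D.map C) := by
    have e1 := hK.map (C : A[X] →+* A[X][X])
    have e2 := (hK.map (shift (1 : A))).symm
    rw [Matrix.map_one _ (map_zero _) (map_one _)] at e1 e2
    exact e1.trans e2
  have hU0 : ∀ i j, ((K.map C * D.map (shift 1)) i j).eval 0 = (P i j).map φ := fun i j => by
    rw [← coe_evalRingHom, ← Matrix.map_apply (M := K.map C * D.map (shift 1)) (f := evalRingHom 0),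
      Matrix.map_mul, Matrix.map_map, Matrix.map_map, ← RingHom.coe_comp, ← RingHom.coe_comp,
      evalRingHom_comp_shift]
    simp [← hKD, PA, Function.comp_def]
  have hV0 : ∀ i j, ((K.map (shift 1) * D.map C) i j).eval 0 = (P i j).map φ := fun i j => by
    rw [← coe_evalRingHom, ← Matrix.map_apply (M := K.map (shift 1) * D.map C) (f := evalRingHom 0),
      Matrix.map_mul, Matrix.map_map, Matrix.map_map, ← RingHom.coe_comp, ← RingHom.coe_comp,
      evalRingHom_comp_shift]
    simp [← hKD, PA, Function.comp_def]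
  choose NU hNU using fun p : ι × ι => exists_lift_scale h _ _ (hU0 p.1 p.2)
  choose NV hNV using fun p : ι × ι => exists_lift_scale h _ _ (hV0 p.1 p.2)
  set n := max (Finset.univ.sup NU) (Finset.univ.sup NV)
  choose U hU using fun p : ι × ι =>
    hNU p n ((Finset.le_sup (Finset.mem_univ p)).trans (le_max_left _ _))
  choose V hV using fun p : ι × ι =>
    hNV p n ((Finset.le_sup (Finset.mem_univ p)).trans (le_max_right _ _))
  set U₁ : Matrix ι ι R[X][X] := fun i j => U (i, j)
  set V₁ : Matrix ι ι R[X][X] := fun i j => V (i, j)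
  have hU0' : U₁.map (evalRingHom 0) = P := by ext1 i j; exact (hU (i, j)).2
  have hV0' : V₁.map (evalRingHom 0) = P := by ext1 i j; exact (hV (i, j)).2
  set M := mapRingHom (mapRingHom φ)
  have hUM : U₁.map M = (K.map C * D.map (shift 1)).map (scale (φ a ^ n)) := by
    ext1 i j; exact (hU (i, j)).1
  have hVM : V₁.map M = (K.map (shift 1) * D.map C).map (scale (φ a ^ n)) := by
    ext1 i j; exact (hV (i, j)).1
  set P1 := P.map (C : R[X] →+* R[X][X])
  set P2 := P.map (shift (a ^ n))
  have hP1M : P1.map M = (PA.map C).map (scale (φ a ^ n)) := by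
    simp only [P1, PA, Matrix.map_map, ← RingHom.coe_comp]
    congr 2
    rw [← RingHom.comp_assoc, scale_comp_C]
    ext <;> simp [M]
  have hP2M : P2.map M = (PA.map (shift 1)).map (scale (φ a ^ n)) := by
    simp only [P2, PA, Matrix.map_map, ← RingHom.coe_comp]
    congr 2
    rw [← RingHom.comp_assoc, scale_comp_shift, one_mul, map_comp_shift, map_pow]
  have hP1e : P1.map (evalRingHom 0) = P := by ext1 i j; simp [P1]
  have hP2e : P2.map (evalRingHom 0) = P := by
    ext1 i j
    simpa [P2] using RingHom.congr_fun (evalRingHom_comp_shift (a ^ n)) (P i j)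
  have hC' := hC.map (scale (φ a ^ n))
  rw [← hP1M, ← hP2M, ← hUM, ← hVM] at hC'
  obtain ⟨c1, c2, c3, c4, c5, c6⟩ := hC'
  have kill : ∀ (Z : Matrix ι ι R[X][X]), Z.map (evalRingHom 0) = 0 → Z.map M = 0 →
      ∃ N : ℕ, ∀ j, N ≤ j → Z.map (scale (a ^ j)) = 0 := by
    intro Z he hM
    choose N hN using fun p : ι × ι => exists_scale_eq_zero h (Z p.1 p.2)
      (congrFun (congrFun he p.1) p.2) (congrFun (congrFun hM p.1) p.2)
    exact ⟨Finset.univ.sup N, fun j hj => Matrix.ext fun i k =>
      hN (i, k) j ((Finset.le_sup (Finset.mem_univ _)).trans hj)⟩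
  have rel : ∀ (Y Z W : Matrix ι ι R[X][X]),
      Y.map (evalRingHom 0) = P → Z.map (evalRingHom 0) = P → W.map (evalRingHom 0) = P →
      Y.map M * Z.map M = W.map M →
      ∃ N : ℕ, ∀ j, N ≤ j →
        Y.map (scale (a ^ j)) * Z.map (scale (a ^ j)) = W.map (scale (a ^ j)) := by
    intro Y Z W hY hZ hW hM
    obtain ⟨N, hN⟩ := kill (Y * Z - W)
      (by rw [Matrix.map_sub _ (map_sub _), Matrix.map_mul, hY, hZ, hW, hP, sub_self])
      (by rw [Matrix.map_sub _ (map_sub _), Matrix.map_mul, hM, sub_self])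
    refine ⟨N, fun j hj => sub_eq_zero.1 ?_⟩
    rw [← Matrix.map_mul, ← Matrix.map_sub _ (map_sub _)]
    exact hN j hj
  obtain ⟨N1, k1⟩ := rel U₁ V₁ P1 hU0' hV0' hP1e c1
  obtain ⟨N2, k2⟩ := rel V₁ U₁ P2 hV0' hU0' hP2e c2
  obtain ⟨N3, k3⟩ := rel P1 U₁ U₁ hP1e hU0' hU0' c3
  obtain ⟨N4, k4⟩ := rel U₁ P2 U₁ hU0' hP2e hU0' c4
  obtain ⟨N5, k5⟩ := rel P2 V₁ V₁ hP2e hV0' hV0' c5
  obtain ⟨N6, k6⟩ := rel V₁ P1 V₁ hV0' hP1e hV0' c6
  set j := N1 + N2 + N3 + N4 + N5 + N6
  refine ⟨n + j, U₁.map (scale (a ^ j)), V₁.map (scale (a ^ j)), ?_, ?_, ?_⟩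
  · have e1 : P.map (C : R[X] →+* R[X][X]) = P1.map (scale (a ^ j)) := by
      simp only [P1, Matrix.map_map, ← RingHom.coe_comp, scale_comp_C]
    have e2 : P.map (shift (a ^ (n + j))) = P2.map (scale (a ^ j)) := by
      simp only [P2, Matrix.map_map, ← RingHom.coe_comp, scale_comp_shift, pow_add]
    rw [e1, e2]
    exact ⟨k1 j (by omega), k2 j (by omega), k3 j (by omega), k4 j (by omega), k5 j (by omega),
      k6 j (by omega)⟩
  · rw [Matrix.map_map, ← RingHom.coe_comp, evalRingHom_comp_scale, hU0']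
  · rw [Matrix.map_map, ← RingHom.coe_comp, evalRingHom_comp_scale, hV0']

/-- Quillen patching. -/
theorem exists_equivalent_const (hP : P * P = P)
    (hloc : ∀ I : Ideal R, I.IsMaximal → ∃ (a : R) (_ : a ∉ I) (r : ℕ)
      (K : Matrix ι (Fin r) (Localization.Away a)[X])
      (D : Matrix (Fin r) ι (Localization.Away a)[X]),
      P.map (mapRingHom (algebraMap R (Localization.Away a))) = K * D ∧ D * K = 1) :
    ∃ U V : Matrix ι ι R[X],
      Equivalent P ((P.map (evalRingHom 0)).map C) U V := by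
  have htop : translIdeal hP = ⊤ := by
    by_contra hne
    obtain ⟨I, hI, hle⟩ := Ideal.exists_le_maximal _ hne
    obtain ⟨a, ha, r, K, D, hKD, hDK⟩ := hloc I hI
    obtain ⟨N, hN⟩ := translInv_pow_of_free hP (IsAwayLike.of_isLocalization a) K D hKD hDK
    exact ha (hI.isPrime.mem_of_pow_mem N (hle hN))
  obtain ⟨U, V, h, -, -⟩ := (htop ▸ Submodule.mem_top : (1 : R) ∈ translIdeal hP)
  let ev : R[X][X] →+* R[X] := eval₂RingHom ((C : R →+* R[X]).comp (evalRingHom 0)) X
  have h1 : ev.comp C = (C : R →+* R[X]).comp (evalRingHom 0) := by ext <;> simp [ev]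
  have h2 : ev.comp (shift 1) = RingHom.id _ := by ext <;> simp [ev, shift]
  have h3 := (h.map ev).symm
  simp only [Matrix.map_map, ← RingHom.coe_comp, h1, h2] at h3 ⊢
  exact ⟨_, _, h3⟩

end Groth.Agent.CAlg.Horrocks
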