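import Mathlib
import Groth.Agent.CAlg.Horrocks.Local
import Groth.Agent.CAlg.Horrocks.Patch

/-!
Horrocks' theorem + Quillen patching: a finitely generated projective `R[X]`-module which near each
maximal ideal of `R` is, up to multiplication by a polynomial with leading coefficient prime to the
ideal, free, is extended from `R`.
-/

open Polynomial TensorProduct

namespace Groth.Agent.CAlg.Horrocks

universe u v w

/-- The image of an idempotent matrix. -/
abbrev im {S : Type u} [CommRing S] {ι : Type*} [Fintype ι] (P : Matrix ι ι S) :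
    Submodule S (ι → S) := LinearMap.range P.mulVecLin

theorem mem_im {S : Type u} [CommRing S] {ι : Type*} [Fintype ι] {P : Matrix ι ι S}
    (hP : P * P = P) {x : ι → S} : x ∈ im P ↔ P.mulVec x = x :=
  ⟨fun ⟨y, hy⟩ => by rw [← hy, Matrix.mulVecLin_apply, Matrix.mulVec_mulVec, hP],
    fun h => ⟨x, h⟩⟩

theorem projective_im {S : Type u} [CommRing S] {ι : Type*} [Fintype ι] {P : Matrix ι ι S}
    (hP : P * P = P) : Module.Projective S (im P) :=
  Module.Projective.of_split (im P).subtype P.mulVecLin.rangeRestrict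
    (LinearMap.ext fun x => Subtype.ext ((mem_im hP).1 x.2))

/-- Over a local ring: free. -/
theorem exists_free_local {A : Type u} [CommRing A] [IsLocalRing A] {ι : Type v} [Fintype ι]
    [DecidableEq ι] {r : ℕ} {P : Matrix ι ι A[X]} (hP : P * P = P)
    (U : Matrix (Fin r) ι A[X]) (V : Matrix ι (Fin r) A[X]) (H : A[X])
    (hH : IsUnit H.leadingCoeff) (hPV : P * V = V) (hUV : U * V = H • 1) (hVU : V * U = H • P) :
    ∃ (K : Matrix ι (Fin r) A[X]) (D : Matrix (Fin r) ι A[X]), P = K * D ∧ D * K = 1 := by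
  obtain ⟨c, hc⟩ := hH
  have hHm : (C ((c⁻¹ : Aˣ) : A) * H).Monic :=
    monic_C_mul_of_mul_leadingCoeff_eq_one (by rw [← hc, Units.inv_mul])
  set E := im P
  set u : E →ₗ[A[X]] (Fin r → A[X]) := U.mulVecLin ∘ₗ E.subtype
  set v : (Fin r → A[X]) →ₗ[A[X]] E :=
    ((C ((c⁻¹ : Aˣ) : A)) • V.mulVecLin).codRestrict E (fun x => by
      rw [mem_im hP]
      simp [Matrix.mulVec_smul, Matrix.mulVec_mulVec, hPV])
  have := projective_im hP
  have hfin : Module.Finite A[X] E := Module.Finite.range _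
  obtain ⟨e⟩ := free_of_monic u v _ hHm
    (fun x => by simp [u, v, Matrix.mulVec_smul, Matrix.mulVec_mulVec, hUV, Matrix.smul_mulVec,
      smul_smul])
    (fun x => Subtype.ext (by
      simp [u, v, Matrix.mulVec_mulVec, hVU, Matrix.smul_mulVec, (mem_im hP).1 x.2, smul_smul]))
  refine ⟨LinearMap.toMatrix' (E.subtype ∘ₗ e.toLinearMap),
    LinearMap.toMatrix' (e.symm.toLinearMap ∘ₗ P.mulVecLin.rangeRestrict), ?_, ?_⟩
  · rw [← LinearMap.toMatrix'_comp]
    apply Matrix.toLin'.injective
    rw [Matrix.toLin'_toMatrix', Matrix.toLin'_apply']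
    refine LinearMap.ext fun x => ?_
    simp [E, LinearMap.rangeRestrict]
  · rw [← LinearMap.toMatrix'_comp, ← LinearMap.toMatrix'_id]
    congr 1
    refine LinearMap.ext fun x => e.injective ?_
    simp only [LinearMap.comp_apply, LinearEquiv.coe_coe, LinearEquiv.apply_symm_apply,
      LinearMap.id_apply]
    exact Subtype.ext ((mem_im hP).1 (e x).2)

attribute [local instance] Polynomial.algebra

theorem exists_local_factor {R : Type u} [CommRing R] {ι : Type v} [Fintype ι] [DecidableEq ι]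
    {P : Matrix ι ι R[X]} (hP : P * P = P) (I : Ideal R) [I.IsPrime] {r : ℕ}
    (U : Matrix (Fin r) ι R[X]) (V : Matrix ι (Fin r) R[X]) (H : R[X])
    (hH : H.leadingCoeff ∉ I) (hPV : P * V = V) (hUV : U * V = H • 1) (hVU : V * U = H • P) :
    ∃ (a : R) (_ : a ∉ I) (K : Matrix ι (Fin r) (Localization.Away a)[X])
      (D : Matrix (Fin r) ι (Localization.Away a)[X]),
      P.map (mapRingHom (algebraMap R (Localization.Away a))) = K * D ∧ D * K = 1 := by
  set A := Localization.AtPrime I
  set f : R[X] →+* A[X] := mapRingHom (algebraMap R A)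
  have hu : IsUnit (algebraMap R A H.leadingCoeff) :=
    IsLocalization.map_units A (⟨_, hH⟩ : I.primeCompl)
  have hlead : IsUnit (f H).leadingCoeff := by
    simp only [f, coe_mapRingHom]
    rwa [leadingCoeff_map_of_leadingCoeff_ne_zero _ hu.ne_zero]
  obtain ⟨K, D, hKD, hDK⟩ := exists_free_local (P := P.map f) (by rw [← Matrix.map_mul, hP])
    (U.map f) (V.map f) (f H) hlead (by rw [← Matrix.map_mul, hPV])
    (by rw [← Matrix.map_mul, hUV]; ext1 i j; rcases eq_or_ne i j with rfl | hij <;> simp [*])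
    (by rw [← Matrix.map_mul, hVU]; ext1 i j; simp)
  have := Polynomial.isLocalization (R := R) I.primeCompl A
  set M := I.primeCompl.map (C : R →+* R[X])
  obtain ⟨⟨_, s, hs, rfl⟩, hint⟩ := IsLocalization.exist_integer_multiples_of_finite M
    (fun p : (ι × Fin r) ⊕ (Fin r × ι) => Sum.elim (fun q => K q.1 q.2) (fun q => D q.1 q.2) p)
  choose L hL using hint
  set K₀ : Matrix ι (Fin r) R[X] := fun i j => L (Sum.inl (i, j))
  set D₀ : Matrix (Fin r) ι R[X] := fun i j => L (Sum.inr (i, j))
  have halg : algebraMap R[X] A[X] = f := rfl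
  have hK₀ : K₀.map f = f (C s) • K := by
    ext1 i j
    have := hL (Sum.inl (i, j))
    rw [halg, Algebra.smul_def, halg] at this
    exact this
  have hD₀ : D₀.map f = f (C s) • D := by
    ext1 i j
    have := hL (Sum.inr (i, j))
    rw [halg, Algebra.smul_def, halg] at this
    exact this
  have kill : ∀ {α β : Type v} [Fintype α] [Fintype β] (Z : Matrix α β R[X]), Z.map f = 0 →
      ∃ t ∉ I, C t • Z = 0 := by
    intro α β _ _ Z hZ
    have : ∀ p : α × β, ∃ t ∉ I, C t * Z p.1 p.2 = 0 := fun p => by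
      obtain ⟨⟨_, t, ht, rfl⟩, h⟩ := (IsLocalization.map_eq_zero_iff M A[X] (Z p.1 p.2)).1
        (by rw [halg]; exact congrFun (congrFun hZ p.1) p.2)
      exact ⟨t, ht, h⟩
    choose t ht hZt using this
    classical
    refine ⟨∏ p, t p, fun h => ?_, Matrix.ext fun i j => ?_⟩
    · obtain ⟨p, -, hp⟩ := Ideal.IsPrime.prod_mem_iff.1 h
      exact ht p hp
    · rw [← Finset.prod_erase_mul _ _ (Finset.mem_univ ((i, j) : α × β)), Matrix.smul_apply,
        smul_eq_mul, map_mul, mul_assoc, hZt (i, j), mul_zero, Matrix.zero_apply]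
  obtain ⟨t₁, ht₁, h₁⟩ := kill (K₀ * D₀ - (C s * C s) • P) (by
    rw [Matrix.map_sub _ (map_sub _), Matrix.map_mul, hK₀, hD₀, Matrix.smul_mul, Matrix.mul_smul,
      smul_smul, ← hKD]
    ext1 i j; simp)
  obtain ⟨t₂, ht₂, h₂⟩ := kill
    (((D₀ * K₀ - (C s * C s) • 1 : Matrix (Fin r) (Fin r) R[X])).reindex Equiv.ulift.symm
      Equiv.ulift.symm : Matrix (ULift.{v} (Fin r)) (ULift.{v} (Fin r)) R[X]) (by
    rw [Matrix.reindex_apply, ← Matrix.submatrix_map, Matrix.map_sub _ (map_sub _), Matrix.map_mul,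
      hK₀, hD₀, Matrix.smul_mul, Matrix.mul_smul, smul_smul, hDK]
    ext1 i j
    obtain ⟨i⟩ := i
    obtain ⟨j⟩ := j
    rcases eq_or_ne i j with rfl | hij <;> simp [*])
  refine ⟨s * (t₁ * t₂), ?_, ?_⟩
  · exact fun h => ((‹I.IsPrime›).mem_or_mem h).elim hs fun h' =>
      ((‹I.IsPrime›).mem_or_mem h').elim ht₁ ht₂
  set a := s * (t₁ * t₂)
  set φ : R[X] →+* (Localization.Away a)[X] := mapRingHom (algebraMap R (Localization.Away a))
  have hua : IsUnit (algebraMap R (Localization.Away a) a) :=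
    IsLocalization.Away.algebraMap_isUnit a
  simp only [a, map_mul, IsUnit.mul_iff] at hua
  obtain ⟨hus, hut₁, hut₂⟩ := hua
  have hs' : IsUnit (φ (C s)) := by
    simpa [φ] using hus.map C
  obtain ⟨σ, hσ⟩ := hs'
  refine ⟨((σ⁻¹ : _ˣ) : (Localization.Away a)[X]) • K₀.map φ,
    ((σ⁻¹ : _ˣ) : (Localization.Away a)[X]) • D₀.map φ, ?_, ?_⟩
  · have e := congrArg (fun Z => Z.map φ) h₁
    have e' : (K₀ * D₀).map φ = ((σ : (Localization.Away a)[X]) * σ) • P.map φ := by
      ext1 i j
      have := congrFun (congrFun e i) j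
      simp only [Matrix.map_apply, Matrix.smul_apply, Matrix.sub_apply, smul_eq_mul, map_mul,
        map_sub, Matrix.zero_apply, map_zero] at this
      have hu1 : IsUnit (φ (C t₁)) := by simpa [φ] using hut₁.map C
      rw [hu1.mul_right_eq_zero, sub_eq_zero] at this
      simpa [hσ] using this
    rw [Matrix.smul_mul, Matrix.mul_smul, smul_smul, ← Matrix.map_mul, e', smul_smul]
    rw [show ((σ⁻¹ : _ˣ) : (Localization.Away a)[X]) * ((σ⁻¹ : _ˣ) : _) * ((σ : _) * σ) = 1 by
      rw [mul_mul_mul_comm, Units.inv_mul, one_mul], one_smul]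
  · have e := congrArg (fun Z => Z.map φ) h₂
    have e' : (D₀ * K₀).map φ = ((σ : (Localization.Away a)[X]) * σ) • 1 := by
      ext1 i j
      have := congrFun (congrFun e (ULift.up i)) (ULift.up j)
      simp only [Matrix.map_apply, Matrix.smul_apply, smul_eq_mul, map_mul,
        Matrix.zero_apply, map_zero, Matrix.reindex_apply, Matrix.submatrix_apply,
        Equiv.symm_symm, Equiv.ulift_apply, Matrix.sub_apply, map_sub] at this
      have hu2 : IsUnit (φ (C t₂)) := by simpa [φ] using hut₂.map C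
      rw [hu2.mul_right_eq_zero, sub_eq_zero] at this
      simpa [hσ, Matrix.one_apply, apply_ite] using this
    rw [Matrix.smul_mul, Matrix.mul_smul, smul_smul, ← Matrix.map_mul, e', smul_smul]
    rw [show ((σ⁻¹ : _ˣ) : (Localization.Away a)[X]) * ((σ⁻¹ : _ˣ) : _) * ((σ : _) * σ) = 1 by
      rw [mul_mul_mul_comm, Units.inv_mul, one_mul], one_smul]

/-- Horrocks + Quillen, matrix form. -/
theorem exists_equivalent_const_of_monic {R : Type u} [CommRing R] {ι : Type v} [Fintype ι]
    [DecidableEq ι] {P : Matrix ι ι R[X]} (hP : P * P = P)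
    (h : ∀ I : Ideal R, I.IsMaximal → ∃ (r : ℕ) (U : Matrix (Fin r) ι R[X])
      (V : Matrix ι (Fin r) R[X]) (H : R[X]),
      H.leadingCoeff ∉ I ∧ P * V = V ∧ U * V = H • 1 ∧ V * U = H • P) :
    ∃ U V : Matrix ι ι R[X], Equivalent P ((P.map (evalRingHom 0)).map C) U V := by
  refine exists_equivalent_const hP fun I hI => ?_
  obtain ⟨r, U, V, H, hH, hPV, hUV, hVU⟩ := h I hI
  have := hI.isPrime
  obtain ⟨a, ha, K, D, h1, h2⟩ := exists_local_factor hP I U V H hH hPV hUV hVU
  exact ⟨a, ha, r, K, D, h1, h2⟩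

/-- A finitely generated projective module is free near a maximal ideal. -/
theorem exists_near {S : Type u} [CommRing S] (I : Ideal S) [I.IsMaximal]
    (N : Type v) [AddCommGroup N] [Module S N] [Module.Finite S N] [Module.Projective S N] :
    ∃ (r : ℕ) (n : (Fin r → S) →ₗ[S] N) (n' : N →ₗ[S] (Fin r → S)) (G : S),
      G - 1 ∈ I ∧ (∀ x, n (n' x) = G • x) ∧ (∀ y, n' (n y) = G • y) := by
  classical
  let := Ideal.Quotient.field I
  set b := Module.finBasis (S ⧸ I) (N ⧸ I • (⊤ : Submodule S N))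
  set r := Module.finrank (S ⧸ I) (N ⧸ I • (⊤ : Submodule S N))
  choose c hc using fun i => Submodule.Quotient.mk_surjective _ (b i)
  set n : (Fin r → S) →ₗ[S] N := Fintype.linearCombination S c
  have hmk : ∀ y, Submodule.Quotient.mk (p := I • (⊤ : Submodule S N)) (n y) =
      ∑ i, (Ideal.Quotient.mk I (y i)) • b i := by
    intro y
    simp only [n, Fintype.linearCombination_apply, ← Submodule.mkQ_apply, map_sum, map_smul]
    refine Finset.sum_congr rfl fun i _ => ?_
    rw [Submodule.mkQ_apply, hc, ← Ideal.Quotient.algebraMap_eq, algebraMap_smul]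
  have hle : (⊤ : Submodule S (N ⧸ LinearMap.range n)) ≤
      I • (⊤ : Submodule S (N ⧸ LinearMap.range n)) := by
    rintro q -
    obtain ⟨x, rfl⟩ := Submodule.Quotient.mk_surjective _ q
    choose y hy using fun i => Ideal.Quotient.mk_surjective
      (b.repr (Submodule.Quotient.mk x) i)
    have h1 : x - n y ∈ I • (⊤ : Submodule S N) := by
      rw [← Submodule.Quotient.eq, hmk]
      simp only [hy]
      exact (b.sum_repr _).symm
    have h2 : Submodule.Quotient.mk (p := LinearMap.range n) x =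
        Submodule.Quotient.mk (x - n y) := (Submodule.Quotient.eq _).2 ⟨y, by abel⟩
    rw [h2]
    have h3 := Submodule.mem_map_of_mem (f := (LinearMap.range n).mkQ) h1
    rw [Submodule.map_smul''] at h3
    exact Submodule.smul_mono le_rfl le_top h3
  obtain ⟨g, hg, hgN⟩ := Submodule.exists_sub_one_mem_and_smul_eq_zero_of_fg_of_le_smul I
    (⊤ : Submodule S (N ⧸ LinearMap.range n)) Module.Finite.fg_top hle
  have hgr : ∀ x, g • x ∈ LinearMap.range n := fun x =>
    (Submodule.Quotient.mk_eq_zero _).1 (by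
      rw [Submodule.Quotient.mk_smul]; exact hgN _ trivial)
  obtain ⟨n₁, hn₁⟩ := Module.projective_lifting_property n.rangeRestrict
    ((g • LinearMap.id (R := S) (M := N)).codRestrict (LinearMap.range n) hgr)
    n.surjective_rangeRestrict
  have hnn : ∀ x, n (n₁ x) = g • x := fun x => congrArg Subtype.val (LinearMap.congr_fun hn₁ x)
  set φ : (Fin r → S) →ₗ[S] (Fin r → S) := g • LinearMap.id - n₁ ∘ₗ n
  set K := LinearMap.range φ
  have hK : K ≤ I • K := by
    rintro x ⟨y, rfl⟩
    have hn0 : n (φ y) = 0 := by simp [φ, hnn]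
    have hI : ∀ i, φ y i ∈ I := by
      have h0 := hmk (φ y)
      rw [hn0, Submodule.Quotient.mk_zero] at h0
      intro i
      exact Ideal.Quotient.eq_zero_iff_mem.1 (Fintype.linearIndependent_iff.1
        b.linearIndependent _ h0.symm i)
    have h1 : g • φ y ∈ I • K := by
      have : φ (φ y) = g • φ y := by
        show g • φ y - n₁ (n (φ y)) = g • φ y
        rw [hn0, map_zero, sub_zero]
      rw [← this, pi_eq_sum_univ (φ y), map_sum]
      refine Submodule.sum_mem _ fun i _ => ?_
      rw [map_smul]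
      exact Submodule.smul_mem_smul (hI i) ⟨_, rfl⟩
    have h2 : (g - 1) • φ y ∈ I • K := Submodule.smul_mem_smul hg ⟨_, rfl⟩
    have := Submodule.sub_mem _ h1 h2
    rwa [← sub_smul, sub_sub_cancel, one_smul] at this
  obtain ⟨g', hg', hgK⟩ := Submodule.exists_sub_one_mem_and_smul_eq_zero_of_fg_of_le_smul I K
    (by rw [show K = (⊤ : Submodule S _).map φ from (Submodule.map_top φ).symm]
        exact Submodule.FG.map _ Module.Finite.fg_top) hK
  refine ⟨r, n, g' • n₁, g' * g, ?_, fun x => ?_, fun y => ?_⟩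
  · have : g' * g - 1 = (g' - 1) * g + (g - 1) := by ring
    rw [this]
    exact I.add_mem (I.mul_mem_right _ hg') hg
  · simp [hnn, smul_smul]
  · have := hgK _ ⟨y, rfl⟩
    simp only [φ, LinearMap.sub_apply, LinearMap.smul_apply, LinearMap.id_apply,
      LinearMap.comp_apply, smul_sub, sub_eq_zero] at this
    rw [LinearMap.smul_apply, ← this, mul_smul]

/-- Horrocks + Quillen, module form. -/
theorem exists_extended {R : Type u} [CommRing R] (M : Type u) [AddCommGroup M] [Module R[X] M]
    [Module.Finite R[X] M] [Module.Projective R[X] M]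
    (h : ∀ I : Ideal R, I.IsMaximal → ∃ (r : ℕ) (u : M →ₗ[R[X]] (Fin r → R[X]))
      (v : (Fin r → R[X]) →ₗ[R[X]] M) (H : R[X]),
      H.leadingCoeff ∉ I ∧ (∀ x, u (v x) = H • x) ∧ (∀ x, v (u x) = H • x)) :
    ∃ (P : Type u) (_ : AddCommGroup P) (_ : Module R P),
      Module.Finite R P ∧ Module.Projective R P ∧ Nonempty (M ≃ₗ[R[X]] (R[X] ⊗[R] P)) := by
  classical
  obtain ⟨m, p, i, -, hi, hpi⟩ := Module.Finite.exists_comp_eq_id_of_projective R[X] M
  have hpx : ∀ z, p (i z) = z := LinearMap.congr_fun hpi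
  set P := LinearMap.toMatrix' (i ∘ₗ p)
  have hP : P * P = P := by
    rw [← LinearMap.toMatrix'_comp]
    congr 1
    exact LinearMap.ext fun x => by simp [hpx]
  obtain ⟨U, V, hE⟩ := exists_equivalent_const_of_monic hP (fun I hI => by
    obtain ⟨r, u, v, H, hH, huv, hvu⟩ := h I hI
    refine ⟨r, LinearMap.toMatrix' (u ∘ₗ p), LinearMap.toMatrix' (i ∘ₗ v), H, hH, ?_, ?_, ?_⟩
    · rw [← LinearMap.toMatrix'_comp]
      congr 1
      exact LinearMap.ext fun x => by simp [hpx]
    · rw [← LinearMap.toMatrix'_comp, ← LinearMap.toMatrix'_id, ← map_smul]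
      congr 1
      exact LinearMap.ext fun x => by simp [hpx, huv]
    · rw [← LinearMap.toMatrix'_comp, ← map_smul]
      congr 1
      exact LinearMap.ext fun x => by simp [hvu])
  obtain ⟨h1, h2, h3, h4, h5, h6⟩ := hE
  set P0 := P.map (evalRingHom 0)
  have hP0 : P0 * P0 = P0 := by rw [← Matrix.map_mul, hP]
  have := projective_im hP0
  refine ⟨im P0, inferInstance, inferInstance, Module.Finite.range _, inferInstance, ?_⟩
  set b := Pi.basisFun R (Fin m)
  set em : R[X] ⊗[R] (Fin m → R) ≃ₗ[R[X]] (Fin m → R[X]) :=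
    (Algebra.TensorProduct.basis R[X] b).equivFun
  set i' : R[X] ⊗[R] im P0 →ₗ[R[X]] (Fin m → R[X]) :=
    em.toLinearMap ∘ₗ (im P0).subtype.baseChange R[X]
  set r' : (Fin m → R[X]) →ₗ[R[X]] R[X] ⊗[R] im P0 :=
    P0.mulVecLin.rangeRestrict.baseChange R[X] ∘ₗ em.symm.toLinearMap
  have hri : ∀ z, r' (i' z) = z := by
    intro z
    simp only [r', i', LinearMap.comp_apply, LinearEquiv.coe_coe, LinearEquiv.symm_apply_apply]
    rw [← LinearMap.comp_apply, ← LinearMap.baseChange_comp,
      show P0.mulVecLin.rangeRestrict ∘ₗ (im P0).subtype = LinearMap.id from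
        LinearMap.ext fun x => Subtype.ext ((mem_im hP0).1 x.2), LinearMap.baseChange_id]
    rfl
  have hir : ∀ x, i' (r' x) = (P0.map C).mulVec x := by
    intro x
    simp only [r', i', LinearMap.comp_apply, LinearEquiv.coe_coe]
    rw [← LinearMap.comp_apply (LinearMap.baseChange R[X] (im P0).subtype),
      ← LinearMap.baseChange_comp]
    have hsr : (im P0).subtype ∘ₗ P0.mulVecLin.rangeRestrict = P0.mulVecLin := rfl
    rw [hsr]
    have hm : P0.map (C : R →+* R[X]) = LinearMap.toMatrix (Algebra.TensorProduct.basis R[X] b)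
        (Algebra.TensorProduct.basis R[X] b) (P0.mulVecLin.baseChange R[X]) := by
      rw [LinearMap.toMatrix_baseChange]
      congr 1
      rw [LinearMap.toMatrix_eq_toMatrix', ← Matrix.toLin'_apply', LinearMap.toMatrix'_toLin']
    have h := LinearMap.toMatrix_mulVec_repr (Algebra.TensorProduct.basis R[X] b)
      (Algebra.TensorProduct.basis R[X] b) (P0.mulVecLin.baseChange R[X]) (em.symm x)
    rw [← hm] at h
    simp only [em, Module.Basis.equivFun_apply] at h ⊢
    rw [← h]
    congr 1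
    exact (Algebra.TensorProduct.basis R[X] b).equivFun.apply_symm_apply x
  set P0C := P0.map (C : R →+* R[X])
  let F : M →ₗ[R[X]] R[X] ⊗[R] im P0 := r' ∘ₗ V.mulVecLin ∘ₗ i
  let G : R[X] ⊗[R] im P0 →ₗ[R[X]] M := p ∘ₗ U.mulVecLin ∘ₗ i'
  have hipP : ∀ x, i (p x) = P.mulVec x := fun x => by
    rw [← Matrix.toLin'_apply, Matrix.toLin'_toMatrix']; rfl
  refine ⟨LinearEquiv.ofLinearMap F G (LinearMap.ext fun z => ?_) (LinearMap.ext fun x => ?_)⟩
  · simp only [F, G, LinearMap.comp_apply, LinearMap.id_apply, Matrix.mulVecLin_apply, hipP,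
      Matrix.mulVec_mulVec]
    rw [h3, h2, ← hir, hri, hri]
  · simp only [F, G, LinearMap.comp_apply, LinearMap.id_apply, Matrix.mulVecLin_apply, hir,
      Matrix.mulVec_mulVec]
    rw [h5, h1, ← hipP, hpx, hpx]

end Groth.Agent.CAlg.Horrocks
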