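import Mathlib
import Groth.Agent.CAlg.Horrocks.Main

/-!
Projective `R`-modules that become isomorphic over `R[X]` localised at `X` and the polynomials with
constant term `1` are isomorphic.
-/

open Polynomial TensorProduct Matrix

namespace Groth.Agent.CAlg.Horrocks

universe u v w

variable {R : Type u} [CommRing R]

theorem map_C_map_eval {ι κ : Type*} (M : Matrix ι κ R) (c : R) :
    (M.map (C : R →+* R[X])).map (evalRingHom c) = M := by
  ext1 i j; simp

theorem map_smul_eval {ι κ : Type*} (M : Matrix ι κ R[X]) (g : R[X]) (c : R) :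
    (g • M).map (evalRingHom c) = g.eval c • M.map (evalRingHom c) := by
  ext1 i j; simp

theorem exists_near_matrix {κ : Type v} [Fintype κ] [DecidableEq κ] {P : Matrix κ κ R}
    (hP : P * P = P) (I : Ideal R) [I.IsMaximal] :
    ∃ (r : ℕ) (a : Matrix κ (Fin r) R) (b : Matrix (Fin r) κ R) (G : R),
      G ∉ I ∧ P * a = a ∧ a * b = G • P ∧ b * a = G • 1 := by
  have := projective_im hP
  have : Module.Finite R (im P) := Module.Finite.range _
  obtain ⟨r, n, n', G, hG, hnn, hnn'⟩ := exists_near I (im P)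
  have hfix : ∀ z : im P, P.mulVec z.1 = z.1 := fun z => (mem_im hP).1 z.2
  refine ⟨r, LinearMap.toMatrix' ((im P).subtype ∘ₗ n),
    LinearMap.toMatrix' (n' ∘ₗ P.mulVecLin.rangeRestrict), G, fun h =>
      (‹I.IsMaximal›).ne_top ((Ideal.eq_top_iff_one _).2 (by simpa using I.sub_mem h hG)),
    ?_, ?_, ?_⟩
  · apply Matrix.toLin'.injective
    rw [Matrix.toLin'_mul, Matrix.toLin'_toMatrix', Matrix.toLin'_apply']
    exact LinearMap.ext fun x => hfix (n x)
  · rw [← LinearMap.toMatrix'_comp]
    apply Matrix.toLin'.injective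
    rw [Matrix.toLin'_toMatrix', map_smul, Matrix.toLin'_apply']
    exact LinearMap.ext fun x => by simp [hnn]
  · rw [← LinearMap.toMatrix'_comp, ← LinearMap.toMatrix'_id, ← map_smul]
    congr 1
    refine LinearMap.ext fun x => ?_
    have : P.mulVecLin.rangeRestrict (n x).1 = n x := Subtype.ext (hfix (n x))
    simp [this, hnn']

/-- The core statement in matrix form. -/
theorem exists_equivalent_of_units {ι : Type v} {κ : Type w} [Fintype ι] [DecidableEq ι]
    [Fintype κ] [DecidableEq κ] {Pm : Matrix ι ι R} (hPm : Pm * Pm = Pm)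
    {Pn : Matrix κ κ R} (hPn : Pn * Pn = Pn)
    (Ψ : Matrix κ ι R[X]) (Φ : Matrix ι κ R[X]) (f : R[X]) (hf : f.coeff 0 = 1) (d : ℕ)
    (hd : 0 < d)
    (h1 : Pn.map C * Ψ = Ψ) (h2 : Ψ * Pm.map C = Ψ) (h3 : Pm.map C * Φ = Φ)
    (h4 : Φ * Pn.map C = Φ) (h5 : Φ * Ψ = (f * X ^ d) • Pm.map C)
    (h6 : Ψ * Φ = (f * X ^ d) • Pn.map C) :
    ∃ (a : Matrix ι κ R) (b : Matrix κ ι R), Equivalent Pm Pn a b := by
  set M := Pm.map (C : R →+* R[X])
  set N := Pn.map (C : R →+* R[X])
  have hM : M * M = M := by rw [← Matrix.map_mul, hPm]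
  have hN : N * N = N := by rw [← Matrix.map_mul, hPn]
  obtain ⟨h, hh⟩ : X ∣ f - 1 := by simp [X_dvd_iff, hf]
  obtain ⟨μ, ν, hμν⟩ : IsCoprime f (X ^ d) :=
    IsCoprime.pow_right ⟨1, -h, by linear_combination hh⟩
  set π : Matrix (ι ⊕ κ) (ι ⊕ κ) R[X] :=
    fromBlocks ((μ * f) • M) (μ • Φ) (ν • Ψ) ((ν * X ^ d) • N)
  set U := fromCols Ψ ((X ^ d : R[X]) • N)
  set V := fromRows (μ • Φ) ((ν * X ^ d) • N)
  set U' := fromCols (f • M) Φ
  set V' := fromRows ((μ * f) • M) (ν • Ψ)
  have hπ : π * π = π := by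
    simp only [π, fromBlocks_multiply, Matrix.smul_mul, Matrix.mul_smul, smul_smul, hM, hN, h1, h2,
      h3, h4, h5, h6, ← add_smul]
    congr 2
    all_goals first
      | linear_combination (μ * f) * hμν
      | linear_combination μ * hμν
      | linear_combination ν * hμν
      | linear_combination (ν * X ^ d) * hμν
  have hUV : U * V = (X ^ d : R[X]) • N := by
    simp only [U, V, fromCols_mul_fromRows, Matrix.smul_mul, Matrix.mul_smul, smul_smul, hN, h6,
      ← add_smul]
    congr 1
    linear_combination (X ^ d : R[X]) * hμν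
  have hVU : V * U = (X ^ d : R[X]) • π := by
    simp only [π, U, V, fromRows_mul_fromCols, fromBlocks_smul, Matrix.smul_mul, Matrix.mul_smul,
      smul_smul, hN, h1, h4, h5]
    congr 2 <;> ring
  have hπV : π * V = V := by
    simp only [π, V, fromBlocks_mul_fromRows, Matrix.smul_mul, Matrix.mul_smul, smul_smul, hN, h3,
      h4, h6, ← add_smul]
    congr 2
    · linear_combination μ * hμν
    · linear_combination (ν * X ^ d) * hμν
  have hNU : N * U = U := by
    simp only [U, mul_fromCols, Matrix.mul_smul, hN, h1]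
  have hUπ : U * π = U := by
    simp only [U, π, fromCols_mul_fromBlocks, Matrix.smul_mul, Matrix.mul_smul, smul_smul, hN, h1,
      h2, h6, ← add_smul]
    congr 1
    · conv_rhs => rw [← one_smul R[X] Ψ]
      congr 1
    · congr 1
      linear_combination (X ^ d : R[X]) * hμν
  have hVN : V * N = V := by
    simp only [V, fromRows_mul, Matrix.smul_mul, hN, h4]
  have hUV' : U' * V' = f • M := by
    simp only [U', V', fromCols_mul_fromRows, Matrix.smul_mul, Matrix.mul_smul, smul_smul, hM, h5,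
      ← add_smul]
    congr 1
    linear_combination f * hμν
  have hVU' : V' * U' = f • π := by
    simp only [π, U', V', fromRows_mul_fromCols, fromBlocks_smul, Matrix.smul_mul, Matrix.mul_smul,
      smul_smul, hM, h2, h3, h6]
    congr 2 <;> ring
  have hπV' : π * V' = V' := by
    simp only [π, V', fromBlocks_mul_fromRows, Matrix.smul_mul, Matrix.mul_smul, smul_smul, hM, h1,
      h2, h5, ← add_smul]
    congr 2
    · linear_combination (μ * f) * hμν
    · linear_combination ν * hμν
  have hMU' : M * U' = U' := by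
    simp only [U', mul_fromCols, Matrix.mul_smul, hM, h3]
  have hUπ' : U' * π = U' := by
    simp only [U', π, fromCols_mul_fromBlocks, Matrix.smul_mul, Matrix.mul_smul, smul_smul, hM, h3,
      h4, h5, ← add_smul]
    congr 1
    · congr 1
      linear_combination f * hμν
    · conv_rhs => rw [← one_smul R[X] Φ]
      congr 1
  have hVM' : V' * M = V' := by
    simp only [V', fromRows_mul, Matrix.smul_mul, hM, h2]
  obtain ⟨A, B, hE⟩ := exists_equivalent_const_of_monic hπ (fun I hI => by
    obtain ⟨r, a, b, G, hG, hPa, hab, hba⟩ := exists_near_matrix hPn I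
    refine ⟨r, b.map C * U, V * a.map C, C G * X ^ d, ?_, ?_, ?_, ?_⟩
    · rwa [leadingCoeff_C_mul_X_pow]
    · rw [← Matrix.mul_assoc, hπV]
    · rw [Matrix.mul_assoc, ← Matrix.mul_assoc U, hUV, Matrix.smul_mul, Matrix.mul_smul,
        show N * a.map C = (Pn * a).map C from (Matrix.map_mul).symm, hPa, ← Matrix.map_mul, hba]
      ext1 i j
      rcases eq_or_ne i j with rfl | hij
      · simp
      · simp [hij]
    · rw [Matrix.mul_assoc, ← Matrix.mul_assoc (a.map C), ← Matrix.map_mul, hab,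
        show (G • Pn).map (C : R →+* R[X]) = C G • N by ext1 i j; simp [N],
        Matrix.smul_mul, hNU, Matrix.mul_smul, hVU, smul_smul])
  have e0 := hE.map (evalRingHom (0 : R))
  have e1 := hE.map (evalRingHom (1 : R))
  rw [map_C_map_eval] at e0 e1
  have hf0 : f.eval 0 = 1 := by rw [← coeff_zero_eq_eval_zero, hf]
  have hm : Equivalent Pm (π.map (evalRingHom 0)) (U'.map (evalRingHom 0))
      (V'.map (evalRingHom 0)) := by
    have := congrArg (fun Z => Z.map (evalRingHom (0 : R))) hUV'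
    have := congrArg (fun Z => Z.map (evalRingHom (0 : R))) hVU'
    simp only [Matrix.map_mul, map_smul_eval, hf0, one_smul, M, map_C_map_eval] at *
    refine ⟨by assumption, by assumption, ?_, ?_, ?_, ?_⟩
    all_goals first
      | (rw [← map_C_map_eval Pm 0, ← Matrix.map_mul, hMU'])
      | (rw [← map_C_map_eval Pm 0, ← Matrix.map_mul, hVM'])
      | (rw [← Matrix.map_mul, hUπ'])
      | (rw [← Matrix.map_mul, hπV'])
  have hn : Equivalent Pn (π.map (evalRingHom 1)) (U.map (evalRingHom 1))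
      (V.map (evalRingHom 1)) := by
    have := congrArg (fun Z => Z.map (evalRingHom (1 : R))) hUV
    have := congrArg (fun Z => Z.map (evalRingHom (1 : R))) hVU
    simp only [Matrix.map_mul, map_smul_eval, eval_pow, eval_X, one_pow, one_smul, N,
      map_C_map_eval] at *
    refine ⟨by assumption, by assumption, ?_, ?_, ?_, ?_⟩
    all_goals first
      | (rw [← map_C_map_eval Pn 1, ← Matrix.map_mul, hNU])
      | (rw [← map_C_map_eval Pn 1, ← Matrix.map_mul, hVN])
      | (rw [← Matrix.map_mul, hUπ])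
      | (rw [← Matrix.map_mul, hπV])
  exact ⟨_, _, hm.trans (e1.symm |> fun e => (hn.trans e.symm).symm)⟩

theorem closure_form {s : R[X]}
    (hs : s ∈ Submonoid.closure ({f : R[X] | f.coeff 0 = 1} ∪ {X})) :
    ∃ (k : ℕ) (f : R[X]), f.coeff 0 = 1 ∧ s = X ^ k * f := by
  induction hs using Submonoid.closure_induction with
  | mem x hx =>
    rcases hx with hx | hx
    · exact ⟨0, x, hx, by simp⟩
    · exact ⟨1, 1, by simp, by simpa using hx⟩
  | one => exact ⟨0, 1, by simp, by simp⟩
  | mul x y _ _ hx hy =>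
    obtain ⟨k, f, hf, rfl⟩ := hx
    obtain ⟨l, g, hg, rfl⟩ := hy
    exact ⟨k + l, f * g, by rw [mul_coeff_zero, hf, hg, one_mul], by ring⟩

/-- The core statement for modules. -/
theorem nonempty_linearEquiv_of_localization (L : Type u) [CommRing L] [Algebra R[X] L]
    [IsLocalization (Submonoid.closure ({f : R[X] | f.coeff 0 = 1} ∪ {X})) L]
    [Algebra R L] [IsScalarTower R R[X] L]
    (M N : Type v) [AddCommGroup M] [Module R M] [Module.Finite R M] [Module.Projective R M]
    [AddCommGroup N] [Module R N] [Module.Finite R N] [Module.Projective R N]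
    (φ : L ⊗[R] M ≃ₗ[L] L ⊗[R] N) : Nonempty (M ≃ₗ[R] N) := by
  classical
  obtain ⟨m, p, i, -, hi, hpi⟩ := Module.Finite.exists_comp_eq_id_of_projective R M
  obtain ⟨k, q, j, -, hj, hqj⟩ := Module.Finite.exists_comp_eq_id_of_projective R N
  have hpx : ∀ z, p (i z) = z := LinearMap.congr_fun hpi
  have hqx : ∀ z, q (j z) = z := LinearMap.congr_fun hqj
  have hp' : ∀ z, p.baseChange L (i.baseChange L z) = z := fun z => by
    rw [← LinearMap.comp_apply, ← LinearMap.baseChange_comp, hpi, LinearMap.baseChange_id]; rfl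
  have hq' : ∀ z, q.baseChange L (j.baseChange L z) = z := fun z => by
    rw [← LinearMap.comp_apply, ← LinearMap.baseChange_comp, hqj, LinearMap.baseChange_id]; rfl
  set bm := Pi.basisFun R (Fin m)
  set bk := Pi.basisFun R (Fin k)
  set bm' := Algebra.TensorProduct.basis L bm
  set bk' := Algebra.TensorProduct.basis L bk
  set P := LinearMap.toMatrix bm bm (i ∘ₗ p)
  set Q := LinearMap.toMatrix bk bk (j ∘ₗ q)
  have hPP : P * P = P := by
    rw [← LinearMap.toMatrix_comp]; congr 1; exact LinearMap.ext fun x => by simp [hpx]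
  have hQQ : Q * Q = Q := by
    rw [← LinearMap.toMatrix_comp]; congr 1; exact LinearMap.ext fun x => by simp [hqx]
  set X' := LinearMap.toMatrix bm' bk' (j.baseChange L ∘ₗ φ.toLinearMap ∘ₗ p.baseChange L)
  set Y' := LinearMap.toMatrix bk' bm' (i.baseChange L ∘ₗ φ.symm.toLinearMap ∘ₗ q.baseChange L)
  have hP : P.map (algebraMap R L) =
      LinearMap.toMatrix bm' bm' (i.baseChange L ∘ₗ p.baseChange L) := by
    rw [← LinearMap.baseChange_comp, LinearMap.toMatrix_baseChange]
  have hQ : Q.map (algebraMap R L) =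
      LinearMap.toMatrix bk' bk' (j.baseChange L ∘ₗ q.baseChange L) := by
    rw [← LinearMap.baseChange_comp, LinearMap.toMatrix_baseChange]
  have hX : Q.map (algebraMap R L) * X' * P.map (algebraMap R L) = X' := by
    rw [hP, hQ, ← LinearMap.toMatrix_comp, ← LinearMap.toMatrix_comp]
    congr 1; exact LinearMap.ext fun x => by simp [hp', hq']
  have hY : P.map (algebraMap R L) * Y' * Q.map (algebraMap R L) = Y' := by
    rw [hP, hQ, ← LinearMap.toMatrix_comp, ← LinearMap.toMatrix_comp]
    congr 1; exact LinearMap.ext fun x => by simp [hp', hq']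
  have hYX : Y' * X' = P.map (algebraMap R L) := by
    rw [hP, ← LinearMap.toMatrix_comp]
    congr 1; exact LinearMap.ext fun x => by simp [hq']
  have hXY : X' * Y' = Q.map (algebraMap R L) := by
    rw [hQ, ← LinearMap.toMatrix_comp]
    congr 1; exact LinearMap.ext fun x => by simp [hp']
  set S := Submonoid.closure ({f : R[X] | f.coeff 0 = 1} ∪ {X})
  obtain ⟨⟨s, hs⟩, hint⟩ := IsLocalization.exist_integer_multiples_of_finite S
    (fun p : (Fin k × Fin m) ⊕ (Fin m × Fin k) =>
      Sum.elim (fun q => X' q.1 q.2) (fun q => Y' q.1 q.2) p)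
  choose l hl using hint
  set X₀ : Matrix (Fin k) (Fin m) R[X] := fun a b => l (Sum.inl (a, b))
  set Y₀ : Matrix (Fin m) (Fin k) R[X] := fun a b => l (Sum.inr (a, b))
  set f := algebraMap R[X] L
  have hX₀ : X₀.map f = f s • X' := by
    ext1 a b
    exact (hl (Sum.inl (a, b))).trans (Algebra.smul_def s (X' a b))
  have hY₀ : Y₀.map f = f s • Y' := by
    ext1 a b
    exact (hl (Sum.inr (a, b))).trans (Algebra.smul_def s (Y' a b))
  have hfC : ∀ {α β : Type} (Z : Matrix α β R), (Z.map C).map f = Z.map (algebraMap R L) := by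
    intro α β Z; ext1 a b
    simp [f, IsScalarTower.algebraMap_apply R R[X] L]
  set Ψ := Q.map C * X₀ * P.map C
  set Φ := P.map C * Y₀ * Q.map C
  have hΨ : Ψ.map f = f s • X' := by
    simp only [Ψ, Matrix.map_mul, hfC, hX₀, Matrix.mul_smul, Matrix.smul_mul, hX]
  have hΦ : Φ.map f = f s • Y' := by
    simp only [Φ, Matrix.map_mul, hfC, hY₀, Matrix.mul_smul, Matrix.smul_mul, hY]
  have kill : ∀ {α β : Type} [Fintype α] [Fintype β] (Z : Matrix α β R[X]), Z.map f = 0 →
      ∃ t ∈ S, t • Z = 0 := by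
    intro α β _ _ Z hZ
    have : ∀ p : α × β, ∃ t ∈ S, t * Z p.1 p.2 = 0 := fun p => by
      obtain ⟨⟨t, ht⟩, h⟩ :=
        (IsLocalization.map_eq_zero_iff S L (Z p.1 p.2)).1 (congrFun (congrFun hZ p.1) p.2)
      exact ⟨t, ht, h⟩
    choose t ht hZt using this
    classical
    refine ⟨∏ p, t p, S.prod_mem fun p _ => ht p, Matrix.ext fun a b => ?_⟩
    rw [← Finset.prod_erase_mul _ _ (Finset.mem_univ ((a, b) : α × β)), Matrix.smul_apply,
      smul_eq_mul, mul_assoc, hZt (a, b), mul_zero, Matrix.zero_apply]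
  obtain ⟨t₁, ht₁, e₁⟩ := kill (Φ * Ψ - (s * s) • P.map C) (by
    rw [Matrix.map_sub _ (map_sub _), Matrix.map_mul, hΦ, hΨ, Matrix.smul_mul, Matrix.mul_smul,
      smul_smul, hYX, ← hfC P]
    ext1 a b; simp)
  obtain ⟨t₂, ht₂, e₂⟩ := kill (Ψ * Φ - (s * s) • Q.map C) (by
    rw [Matrix.map_sub _ (map_sub _), Matrix.map_mul, hΦ, hΨ, Matrix.smul_mul, Matrix.mul_smul,
      smul_smul, hXY, ← hfC Q]
    ext1 a b; simp)
  obtain ⟨d, g, hg, hdg⟩ := closure_form (S.mul_mem (S.mul_mem ht₁ ht₂) (S.mul_mem hs hs))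
  have hP2 : P.map (C : R →+* R[X]) * P.map C = P.map C := by rw [← Matrix.map_mul, hPP]
  have hQ2 : Q.map (C : R →+* R[X]) * Q.map C = Q.map C := by rw [← Matrix.map_mul, hQQ]
  rw [smul_sub, sub_eq_zero, smul_smul] at e₁ e₂
  obtain ⟨a, b, hab⟩ := exists_equivalent_of_units hPP hQQ ((X * (t₁ * t₂)) • Ψ) Φ g hg (d + 1)
    (Nat.succ_pos d)
    (by simp only [Ψ, Matrix.mul_smul, ← Matrix.mul_assoc, hQ2])
    (by simp only [Ψ, Matrix.smul_mul, Matrix.mul_assoc, hP2])
    (by simp only [Φ, ← Matrix.mul_assoc, hP2])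
    (by simp only [Φ, Matrix.mul_assoc, hQ2])
    (by
      rw [Matrix.mul_smul, show X * (t₁ * t₂) = X * t₂ * t₁ by ring, mul_smul, e₁, smul_smul]
      congr 1
      linear_combination X * hdg)
    (by
      rw [Matrix.smul_mul, show X * (t₁ * t₂) = X * t₁ * t₂ by ring, mul_smul, e₂, smul_smul]
      congr 1
      linear_combination X * hdg)
  obtain ⟨c1, c2, c3, c4, c5, c6⟩ := hab
  have hip : ∀ x, i (p x) = P.mulVec x := fun x => by
    simp only [P, bm, LinearMap.toMatrix_eq_toMatrix', ← Matrix.toLin'_apply,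
      Matrix.toLin'_toMatrix', LinearMap.comp_apply]
  have hjq : ∀ x, j (q x) = Q.mulVec x := fun x => by
    simp only [Q, bk, LinearMap.toMatrix_eq_toMatrix', ← Matrix.toLin'_apply,
      Matrix.toLin'_toMatrix', LinearMap.comp_apply]
  refine ⟨LinearEquiv.ofLinearMap (q ∘ₗ b.mulVecLin ∘ₗ i) (p ∘ₗ a.mulVecLin ∘ₗ j)
    (LinearMap.ext fun y => ?_) (LinearMap.ext fun x => ?_)⟩
  · simp only [LinearMap.comp_apply, LinearMap.id_apply, Matrix.mulVecLin_apply, hip,
      Matrix.mulVec_mulVec]
    rw [c3, c2, ← hjq, hqx, hqx]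
  · simp only [LinearMap.comp_apply, LinearMap.id_apply, Matrix.mulVecLin_apply, hjq,
      Matrix.mulVec_mulVec]
    rw [c5, c1, ← hip, hpx, hpx]

end Groth.Agent.CAlg.Horrocks
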